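import Cfsg.Agent.H225.PPow.Main
import Cfsg.Agent.BpExc.TorChev
import Cfsg.Agent.S1054
import Cfsg.Agent.S1055
import Cfsg.Agent.KFacts.RgdOver
import Cfsg.Agent.Nodes.ChevCls
import Cfsg.Agent.ChevalleyStructure.SL2Hom
import Cfsg.Agent.ChevFast.E6
import Cfsg.Agent.ChevFast.E7
import Cfsg.Agent.ChevFast.E8
import Cfsg.Agent.ChevFast.Lin
import Mathlib
import Cfsg.Agent.FastGrp
import Cfsg.Agent.Prune
set_option linter.all false

section
prune_inst 0x7ffdfffbbfbcfddfffff7e7ffedfdffd99fbdfffe6dffbfb7fe8e5ffabdf6b8cfde56bad7fe252ff1ed6e0b610b87853ffffefffef6bdc7ffffd5ff41ffbee5ff5f7b58851df8cb40fbc0fff83f07fce7f3fffffffffffffffffffffffffffbeffffffffffff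

-- part: H225/PPow/Long
section
prune_inst 0x400000000000000000200000000400000000040000000000000004000208900200100000210100080000000000000000000401000000000840000000000048012020100a000000006009800000000000000000000000000000000000000000000000
set_option linter.all false
open scoped Cfsg.Agent.FastGrp

-- part: H225/PPow/Chev
section
/-!
# Subgroups of `p`-power index of the Chevalley groups `D.group K` in the natural characteristic: generic part
(helper225)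

* `exists_tor` : torus elements with given characters; `SepT` : the table of separating coweights;
* `sep` : `Sep` for all roots; `cent_T` : `C_U(T) = 1`;
* `SimpleE.good` : the theorem for `E₆, E₇, E₈`, `q ≥ 3`.
-/

set_option autoImplicit false
set_option linter.unusedSectionVars false

namespace Cfsg.Agent.H225.PPow

open CoxeterSystem Subgroup Cfsg Cfsg.Lie Cfsg.Lie.ChevalleyDatum
open Cfsg.Agent.ChevalleyStructure Cfsg.Agent.ChevalleyStructure.Elts Cfsg.Agent.ChevalleyStructure.CoxeterGeom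
  Cfsg.Agent.ChevalleyStructure.CoxeterGeomTypes Cfsg.Agent.ChevalleyStructure.NPerm
  Cfsg.Agent.ChevalleyStructure.RootVec Cfsg.Agent.ChevalleyStructure.RootVecTab
open Cfsg.Agent.Tits.Roots Cfsg.Agent.Tits.Core Cfsg.Agent.Tits.Exchange Cfsg.Agent.Nodes.Reps
  Cfsg.Agent.Nodes.BNOf Cfsg.Agent.Nodes.Unique
  Cfsg.Agent.Nodes.RGDChev Cfsg.Agent.Nodes.Bruhat Cfsg.Agent.Nodes.Coroot Cfsg.Agent.KFacts.RgdTI
open Cfsg.Agent.KFacts.RgdField Cfsg.Agent.KFacts.RgdChevCoord Cfsg.Agent.BpExc.TorCent Cfsg.Agent.BpExc.TorChev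

universe u

variable {D : ChevalleyDatum} {l : ℕ} {M : CoxeterMatrix (Fin l)} (hp : IsType D l M) {K : Type u} [Field K]
  {W : Type*} [Group W] (cs : CoxeterSystem M W)

/-- the pairing of the coweight `m` with the root `r` -/
def pr (D : ChevalleyDatum) (l : ℕ) (m : Fin l → ℤ) (r : ℕ) : ℤ := ∑ j : Fin l, m j * D.cartan j r

/-- torus elements with given characters -/
theorem exists_tor [Finite K] (p : ℕ) [Fact p.Prime] [CharP K p] (m : Fin l → ℤ) {a : K} (ha : a ≠ 0) :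
    ∃ t ∈ TT D K, ∀ r < D.nroots, ch hp (vec D l r) t = a ^ pr D l m r := by
  have key : ∀ L : List (Fin l), ∃ t ∈ TT D K, ∀ r < D.nroots,
      ch hp (vec D l r) t = a ^ (L.map fun j : Fin l => m j * D.cartan j r).sum := by
    intro L
    induction L with
    | nil =>
      refine ⟨1, one_mem _, fun r hr => ?_⟩
      rw [List.map_nil, List.sum_nil, zpow_zero]
      exact ch_eq hp hr (one_mem _) (by rw [one_mul, inv_one, mul_one])
    | cons j L ih =>
      obtain ⟨t, ht, e⟩ := ih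
      have ham : a ^ m j ≠ 0 := zpow_ne_zero _ ha
      have hj := hc_mem hp (K := K) j ham
      refine ⟨hc hp j (a ^ m j) * t, mul_mem hj ht, fun r hr => ?_⟩
      apply ch_eq hp hr (mul_mem hj ht)
      have h1 := (act hp hr ht).2 1
      have h2 := (act hp hr hj).2 (ch hp (vec D l r) t * 1)
      have e1 : hc hp j (a ^ m j) * t * xc hp (vec D l r) 1 * (hc hp j (a ^ m j) * t)⁻¹ =
          hc hp j (a ^ m j) * (t * xc hp (vec D l r) 1 * t⁻¹) * (hc hp j (a ^ m j))⁻¹ := by group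
      rw [e1, h1, h2, ch_hc hp j ham hr, e r hr, List.map_cons, List.sum_cons, zpow_add₀ ha, zpow_mul, mul_one]
  obtain ⟨t, ht, e⟩ := key (List.finRange l)
  refine ⟨t, ht, fun r hr => ?_⟩
  rw [e r hr, pr, ← List.sum_ofFn, List.ofFn_eq_map]

/-- the table of separating coweights -/
def SepT (D : ChevalleyDatum) (l : ℕ) (E : List ℤ) (i : Fin l) : Prop :=
  ∀ r < D.nroots, r ≠ D.simple i → r ≠ D.neg (D.simple i) →
    ∃ m : Fin l → ℤ, pr D l m (D.simple i) = 0 ∧ pr D l m r ∈ E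

/-- `q - 1` does not divide the elements of `E` -/
def QE (K : Type u) (E : List ℤ) : Prop := ∀ c ∈ E, ¬ ((Nat.card K - 1 : ℕ) : ℤ) ∣ c

theorem exists_zpow_ne_one [Finite K] : ∃ a : K, a ≠ 0 ∧ ∀ c : ℤ, a ^ c = 1 → ((Nat.card K - 1 : ℕ) : ℤ) ∣ c := by
  have : Fintype K := Fintype.ofFinite K
  obtain ⟨g, hg⟩ := IsCyclic.exists_generator (α := Kˣ)
  refine ⟨g, g.ne_zero, fun c hc => ?_⟩
  have h1 : g ^ c = 1 := by
    apply Units.ext
    rw [Units.val_zpow_eq_zpow_val, hc, Units.val_one]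
  have h2 := orderOf_dvd_iff_zpow_eq_one.2 h1
  have h3 : orderOf g = Nat.card K - 1 := by
    rw [orderOf_eq_card_of_forall_mem_zpowers hg, Nat.card_units]
  rwa [h3] at h2

section Sep

variable [Finite K] (p : ℕ) [hpf : Fact p.Prime] [hch : CharP K p]

include hpf hch

/-- a torus element separating two roots -/
theorem exists_sep {E : List ℤ} (hE : QE K E) {i : Fin l} (hT : SepT D l E i) {w : W} {y : Fin l → ℤ}
    (hy : IsRoot cs hp.isCartan y) (h1 : y ≠ rep cs hp.isCartan w (sr i)) (h2 : y ≠ -rep cs hp.isCartan w (sr i)) :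
    ∃ t ∈ TT D K, ch hp (rep cs hp.isCartan w (sr i)) t = 1 ∧ ch hp y t ≠ 1 := by
  have R := rgd (K := K) hp cs p
  have C := coords (K := K) hp cs p
  obtain ⟨a, ha, hac⟩ := exists_zpow_ne_one (K := K)
  have hy' : IsRoot cs hp.isCartan (rep cs hp.isCartan w⁻¹ y) := hy.act _
  obtain ⟨r, hr, er⟩ := (isRoot_iff hp cs _).1 hy'
  obtain ⟨m, hm1, hm2⟩ := hT r hr (by
    rintro rfl
    apply h1
    rw [vec_simple hp] at er
    rw [er, rep_apply_inv]) (by
    intro h3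
    apply h2
    rw [h3, vec_neg hp (simple_lt hp.inList (lt_rank hp i)), vec_simple hp] at er
    rw [← map_neg, er, rep_apply_inv])
  obtain ⟨t, ht, et⟩ := exists_tor hp (K := K) p m ha
  obtain ⟨g, hg⟩ := exists_rp cs R.nsys w
  have htn : g * t * g⁻¹ ∈ TT D K := (Subgroup.mem_normalizer_iff.1 hg.mem_normalizer t).1 ht
  refine ⟨g * t * g⁻¹, htn, ?_, ?_⟩
  · rw [C.chi_rp R.nsys hg (isRoot_sr cs _ i) ht]
    have := et _ (simple_lt hp.inList (lt_rank hp i))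
    rw [vec_simple hp, hm1, zpow_zero] at this
    exact this
  · have h3 := C.chi_rp R.nsys hg hy' ht
    rw [rep_apply_inv] at h3
    rw [h3, ← er, et r hr]
    exact fun h4 => hE _ hm2 (hac _ h4)

/-- commuting elements and characters -/
theorem comm_iff {y : Fin l → ℤ} (hy : IsRoot cs hp.isCartan y) {t : ↥(D.group K)} (ht : t ∈ TT D K)
    (h1 : ch hp y t = 1) : ∀ a ∈ XX D l K y, t * a = a * t := by
  have C := (coords (K := K) hp cs p).coord y hy
  intro a ha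
  obtain ⟨s, rfl⟩ := (C.mem a).1 ha
  have h2 := C.act t ht s
  rw [h1, one_mul] at h2
  calc t * xc hp y s = t * xc hp y s * t⁻¹ * t := by group
    _ = xc hp y s * t := by rw [h2]

theorem eq_one_of_comm {y : Fin l → ℤ} (hy : IsRoot cs hp.isCartan y) {t : ↥(D.group K)} (ht : t ∈ TT D K)
    (h1 : ch hp y t ≠ 1) {u : ↥(D.group K)} (hu : u ∈ XX D l K y) (hc : u * t = t * u) : u = 1 := by
  have C := (coords (K := K) hp cs p).coord y hy
  obtain ⟨s, rfl⟩ := (C.mem u).1 hu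
  have h2 := C.act t ht s
  rw [← hc, mul_inv_cancel_right] at h2
  have h3 := C.inj h2
  have h4 : s = 0 := by
    by_contra hs
    exact h1 ((mul_eq_right₀ hs).1 h3.symm)
  rw [h4, C.zero]

/-- `Sep` for a positive root in the orbit of the simple root `i` -/
theorem sep [Finite W] {E : List ℤ} (hE : QE K E) {i : Fin l} (hT : SepT D l E i) {w : W}
    (h0 : 0 ≤ rep cs hp.isCartan w (sr i)) :
    Sep cs hp.isCartan (TT D K) (XX D l K) (rep cs hp.isCartan w (sr i)) := by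
  have R := rgd (K := K) hp cs p
  refine sep_of R fun y hy hy0 hne u hu hcu => ?_
  obtain ⟨t, ht, h1, h2⟩ := exists_sep hp cs p hE hT hy hne (by
    intro h3
    rw [h3] at hy0
    exact ((isRoot_sr cs hp.isCartan i).act w).not_pos_neg h0 (neg_nonneg.1 hy0))
  exact eq_one_of_comm hp cs p hy ht h2 hu (hcu t ht (comm_iff hp cs p ⟨w, i, rfl⟩ ht h1))

theorem sep_simple [Finite W] {E : List ℤ} (hE : QE K E) {i : Fin l} (hT : SepT D l E i) :
    Sep cs hp.isCartan (TT D K) (XX D l K) (sr i) := by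
  have := sep hp cs p (K := K) (w := 1) hE hT (by rw [map_one, Module.End.one_apply]; exact sr_nonneg i)
  rwa [map_one, Module.End.one_apply] at this

/-- `C_U(T) = 1` -/
theorem cent_T [Finite W] {E : List ℤ} (hE : QE K E) {i j : Fin l} (hij : i ≠ j) (hT : SepT D l E i)
    (hT' : SepT D l E j) : ∀ u ∈ RGD.Sup (XX D l K) (RGD.Pos cs hp.isCartan), (∀ t ∈ TT D K, u * t = t * u) →
      u = 1 := by
  have R := rgd (K := K) hp cs p
  refine cent_T_of R fun y hy hy0 u hu hcu => ?_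
  have key : ∀ i : Fin l, SepT D l E i → y ≠ sr i → u = 1 := by
    intro i hT hne
    obtain ⟨t, ht, h1, h2⟩ := exists_sep hp cs p (w := (1 : W)) hE hT hy (by
      rw [map_one, Module.End.one_apply]; exact hne) (by
      rw [map_one, Module.End.one_apply]
      intro h3
      rw [h3] at hy0
      exact (isRoot_sr cs hp.isCartan i).not_pos_neg (sr_nonneg i) (neg_nonneg.1 hy0))
    exact eq_one_of_comm hp cs p hy ht h2 hu (hcu t ht)
  by_cases h1 : y = sr i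
  · refine key j hT' ?_
    rw [h1]
    intro h2
    have h3 := congrFun h2 i
    rw [sr_self, sr_ne hij] at h3
    omega
  · exact key i hT h1

include hp in
/-- `T` is transitive on `X_i ∖ 1` if there is a coweight with value `±1` -/
theorem trans {i : Fin l} (hm : ∃ m : Fin l → ℤ, pr D l m (D.simple i) = 1) :
    ∀ x ∈ XX D l K (sr i), ∀ y ∈ XX D l K (sr i), x ≠ 1 → y ≠ 1 → ∃ t ∈ TT D K, t * x * t⁻¹ = y := by
  obtain ⟨m, hm⟩ := hm
  have hsr := isRoot_sr M.toCoxeterSystem hp.isCartan i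
  have C := (coords (K := K) hp M.toCoxeterSystem p).coord (sr i) hsr
  intro x hx y hy hx1 hy1
  obtain ⟨a, rfl⟩ := (C.mem x).1 hx
  obtain ⟨b, rfl⟩ := (C.mem y).1 hy
  have ha : a ≠ 0 := by rintro rfl; exact hx1 C.zero
  have hb : b ≠ 0 := by rintro rfl; exact hy1 C.zero
  obtain ⟨t, ht, et⟩ := exists_tor hp (K := K) p m (a := b / a) (div_ne_zero hb ha)
  refine ⟨t, ht, ?_⟩
  have h1 := et _ (simple_lt hp.inList (lt_rank hp i))
  rw [vec_simple hp, hm, zpow_one] at h1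
  rw [C.act t ht, h1, div_mul_cancel₀ b ha]

include hp in
theorem card_X (i : Fin l) : Nat.card ↥(XX D l K (sr i)) = Nat.card K := by
  have hsr := isRoot_sr M.toCoxeterSystem hp.isCartan i
  have C := (coords (K := K) hp M.toCoxeterSystem p).coord (sr i) hsr
  symm
  refine Nat.card_congr (Equiv.ofBijective (fun a : K => (⟨xc hp (sr i) a, (C.mem _).2 ⟨a, rfl⟩⟩ : ↥(XX D l K (sr i))))
    ⟨fun a b hab => C.inj (congrArg Subtype.val hab), fun y => ?_⟩)
  obtain ⟨a, ha⟩ := (C.mem y.1).1 y.2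
  exact ⟨a, Subtype.ext ha⟩

end Sep

/-- conjugating so that `T ≤ H` -/
theorem good_of {Y : Type*} [Group Y] [Finite Y] {p : ℕ} [Fact p.Prime] {I W : Type*} [Fintype I] [DecidableEq I]
    [Group W] [Finite W] {M : CoxeterMatrix I} {cs : CoxeterSystem M W} {A : I → I → ℤ} {h : IsCartan M A}
    {T : Subgroup Y} {n : I → Y} {X : (I → ℤ) → Subgroup Y} {R : RGD cs h p T n X} (hG : GG cs h T X = ⊤)
    (key : ∀ (H : Subgroup Y) (k : ℕ), Ctx R H k → T ≤ H → H = ⊤) : H408.Core.Good p Y := by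
  intro H k hH
  have C : Ctx R H k := ⟨hG, hH⟩
  obtain ⟨g, hg⟩ := C.exists_T_le
  have h1 := key _ k (C.conj g) (fun t ht => by
    change g * t * g⁻¹ ∈ H
    exact hg t ht)
  rw [eq_top_iff]
  intro x _
  have h2 : g⁻¹ * x * g ∈ H.comap (MulAut.conj g).toMonoidHom := by rw [h1]; exact mem_top _
  have h3 : g * (g⁻¹ * x * g) * g⁻¹ ∈ H := h2
  have e : g * (g⁻¹ * x * g) * g⁻¹ = x := by group
  rwa [e] at h3

end Cfsg.Agent.H225.PPow
end

-- part: H225/PPow/Tab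
section
/-!
# Tables of separating coweights (helper225)
-/

set_option autoImplicit false
set_option linter.unusedSectionVars false

namespace Cfsg.Agent.H225.PPow

open Cfsg.Lie Cfsg.Lie.ChevalleyDatum
open Cfsg.Agent.ChevalleyStructure Cfsg.Agent.ChevalleyStructure.Elts Cfsg.Agent.ChevalleyStructure.RootVec
  Cfsg.Agent.ChevalleyStructure.RootVecTab
open Cfsg.Agent.Nodes.RGDChev

/-- the pairing with a root, computed from the packed table -/
def prL (D : ChevalleyDatum) (r : ℕ) : List ℤ → ℕ → ℤ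
  | [], _ => 0
  | a :: m, j => a * ((cart D j r : ℤ) - 8) + prL D r m (j + 1)

/-- the check -/
def chkT (D : ChevalleyDatum) (l : ℕ) (E : List ℤ) (i : ℕ) (L : List (List ℤ)) : Bool :=
  (List.range D.nroots).all fun r => r == D.simple i || r == D.neg (D.simple i) ||
    L.any fun m => m.length == l && prL D (D.simple i) m 0 == 0 && E.contains (prL D r m 0)

/-- coweights for `E6` -/
def cwE6 : List (List (List ℤ)) :=
  [[[1, 2, 2, 3, 2, 1], [-1, -1, -2, -3, -2, -1], [0, 0, 0, -1, -1, -1], [0, -1, 0, 0, 0, -1]],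
   [[0, 0, 0, 0, -1, 0], [0, 0, 0, 0, 0, -1], [1, 1, 1, 2, 1, 0], [1, 0, 0, 0, 1, -1]],
   [[1, 2, 2, 3, 2, 1], [1, 1, 1, 1, 1, 0], [0, 0, 0, 0, -1, 0], [-1, 0, -1, -1, 0, 0]],
   [[1, 2, 2, 3, 2, 1], [-1, -1, -2, -2, -1, 0], [1, 0, 1, 0, -1, -1], [-1, -1, 1, 0, 0, 1]],
   [[1, 2, 2, 3, 2, 1], [1, 1, 1, 2, 1, 0], [0, 0, 0, 1, 0, -1], [-1, -1, -2, -3, -2, -1]],
   [[1, 2, 2, 3, 2, 1], [-1, -1, -2, -3, -2, -1], [-1, 0, -1, -1, 0, 0], [-1, 0, -1, 0, 0, 0]]]

/-- coweights for `E7` -/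
def cwE7 : List (List (List ℤ)) :=
  [[[0, 0, 0, 0, 1, 0, -1], [0, -1, 0, -1, 0, 0, 0], [0, 0, 0, -1, 1, 1, 0], [0, 1, 0, -1, -1, -1, 1], [-1, -1, -2, -2, -2, -2, -1]],
   [[0, 0, 0, 0, 1, 0, -1], [1, 0, 1, 0, 0, 0, -1], [-1, 0, -1, 0, -1, -1, -1], [-1, 0, 1, 0, 0, -1, -1], [0, 0, 1, 0, 1, -1, 0]],
   [[0, 0, 0, 0, 1, 0, -1], [1, 0, 1, 1, 0, 0, -1], [1, 0, 1, 1, 1, 1, 0], [-1, 0, 0, 1, -1, -1, 1], [-1, 1, -1, -1, -1, 0, -1]],
   [[0, 0, 1, 1, 1, 0, -1], [1, 0, 1, 1, 1, 1, 0], [1, 0, -1, 0, 1, 0, 0], [1, -1, -1, -1, 0, 0, 1], [-1, 1, 0, 1, 1, 0, 1]],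
   [[1, 0, 1, 0, 0, 0, -1], [1, 0, -1, -1, -1, -1, 0], [-1, 1, 1, 0, 0, 0, 0], [0, -1, 0, -1, 0, 1, 1], [-1, 1, 0, 1, 1, 1, -1]],
   [[0, 0, 0, 0, 1, 0, -1], [-1, -1, -1, 0, 1, 1, 1], [-1, 1, 1, 0, 0, 0, 0], [0, 0, 1, 1, 1, 0, -1], [0, -1, 0, -1, 0, 0, 0]],
   [[0, -1, 0, -1, 0, 0, 0], [1, -1, 1, -1, -1, 0, 0], [0, 0, 1, 1, -1, 0, 0], [-1, -1, -1, 0, 1, 0, 0], [-1, 1, 1, 0, 0, 0, 0]]]

/-- coweights for `E8` -/
def cwE8 : List (List (List ℤ)) :=
  [[[0, 0, 0, 1, 0, 1, 0, 0], [0, 1, 0, 0, -1, -1, -1, -1], [0, 1, 0, 0, 0, -1, -1, 0], [0, -1, 0, -1, -1, -1, -1, 1], [0, 0, 0, -1, -1, -1, -1, -1], [0, 0, 0, 0, 0, -1, 1, 1]],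
   [[1, 0, 0, 0, 0, 0, 1, 1], [0, 0, -1, 0, -1, -1, -1, -1], [0, 0, 1, 0, 0, 1, 0, 0], [0, 0, 0, 0, 0, -1, 1, 1], [-2, -2, -3, -4, -3, -2, -2, -1], [1, 0, 0, 0, 0, -1, 1, 1]],
   [[0, 1, 0, 0, -1, -1, -1, -1], [0, 1, 0, 0, 0, -1, -1, 0], [1, 1, 1, 1, 1, 1, 0, -1], [0, -1, 0, 0, 1, 0, -1, -1], [-1, -3, -3, -5, -4, -3, -2, -1], [0, 0, 0, 0, 0, -1, 1, 1]],
   [[0, 0, -1, -1, -1, -1, 0, -1], [0, 1, 0, 0, -1, -1, -1, -1], [0, 1, 0, 1, 1, 1, 0, -1], [0, -1, 0, 0, 1, 0, -1, -1], [-2, -3, -3, -5, -4, -3, -2, -1], [-1, -3, -3, -5, -4, -3, -2, -1]],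
   [[0, 0, -1, -1, -1, -1, 0, -1], [0, 1, 0, 1, 1, 1, 0, -1], [0, 0, 1, 1, 0, -1, 0, 0], [1, 1, 0, 0, 0, 0, 0, 1], [-2, -3, -3, -5, -4, -3, -2, -1], [-1, 0, -1, -1, 0, 1, -1, 0]],
   [[0, 1, 0, 0, -1, -1, -1, -1], [0, 0, -1, 0, -1, -1, -1, -1], [0, 1, 1, 1, 1, 0, -1, -1], [1, 1, 0, 0, 0, 0, 0, 1], [0, -1, 0, -1, -1, -1, -1, 1], [-2, -3, -3, -5, -4, -3, -2, -1]],
   [[0, 1, 0, 0, -1, -1, -1, -1], [0, 0, -1, 0, -1, -1, -1, -1], [0, 1, 0, 1, 1, 1, 0, -1], [-1, 1, -1, 1, 1, 0, 0, 0], [-2, -3, -3, -5, -4, -3, -2, -1], [-1, -3, -3, -5, -4, -3, -2, -1]],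
   [[0, 0, 0, 1, 0, 1, 0, 0], [1, 0, 0, -1, 0, 0, 0, 0], [-2, -3, -3, -5, -4, -3, -2, -1], [1, 0, 0, 1, 1, 1, 0, 0], [-1, 1, -1, 1, 1, 0, 0, 0], [1, -1, 0, 1, 1, 1, 0, 0]]]

/-- coweights for `F4` -/
def cwF4 : List (List (List ℤ)) :=
  [[[0, 0, -1, 1], [-1, -2, -2, -2], [-1, -2, -2, -1]],
   [[1, 0, -1, 0], [1, 1, 1, -1], [0, 1, 2, 1]],
   [[-1, -1, -2, -2], [-1, -1, -1, 0], [-1, -2, -2, 0]],
   [[0, 1, 2, 1], [0, 1, 0, 0], [-1, -2, -2, -1]]]

/-- coweights for `F4S` -/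
def cwF4S : List (List (List ℤ)) :=
  [[[-1, -2, -2, -1], [0, 0, -1, -1], [-1, -2, -2, -2]],
   [[0, 1, 2, 1], [-1, -1, -1, -1], [-1, 0, 1, -1]]]

/-- coweights for `G2S` -/
def cwG2S : List (List (List ℤ)) :=
  [[[1, 2]]]

/-- coweights for `G2` -/
def cwG2 : List (List (List ℤ)) :=
  [[[1, 2]],
   [[-2, -3]]]


theorem prL_eq {D : ChevalleyDatum} {l : ℕ} (hc : Checked D) (hl : D.rank = l) {r : ℕ} (hr : r < D.nroots) :
    ∀ (m : List ℤ) (j : ℕ), j + m.length = l →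
      prL D r m j = ∑ k ∈ Finset.range m.length, m.getD k 0 * D.cartan (j + k) r := by
  intro m
  induction m with
  | nil => intro j _; simp [prL]
  | cons a m ih =>
    intro j hj
    rw [List.length_cons] at hj
    rw [prL, ih (j + 1) (by omega), List.length_cons, Finset.sum_range_succ', List.getD_cons_zero, add_zero,
      add_comm, cartan_eq_cart hc (by omega) hr]
    congr 1
    refine Finset.sum_congr rfl fun k _ => ?_
    rw [List.getD_cons_succ]
    congr 2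
    omega

theorem pr_of_list {D : ChevalleyDatum} {l : ℕ} (hc : Checked D) (hl : D.rank = l) {r : ℕ} (hr : r < D.nroots)
    (m : List ℤ) (hm : m.length = l) : pr D l (fun j => m.getD j 0) r = prL D r m 0 := by
  rw [prL_eq hc hl hr m 0 (by omega), pr, hm, ← Fin.sum_univ_eq_sum_range
    (fun k => m.getD k 0 * D.cartan (0 + k) r)]
  refine Finset.sum_congr rfl fun j _ => ?_
  rw [zero_add]

theorem sepT_of {D : ChevalleyDatum} {l : ℕ} {M : CoxeterMatrix (Fin l)} (hp : IsType D l M) {E : List ℤ} {i : Fin l}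
    {L : List (List ℤ)} (h : chkT D l E i L = true) : SepT D l E i := by
  intro r hr h1 h2
  unfold chkT at h
  rw [List.all_eq_true] at h
  have h3 := h r (List.mem_range.2 hr)
  simp only [Bool.or_eq_true, beq_iff_eq, h1, h2, false_or, List.any_eq_true, Bool.and_eq_true] at h3
  obtain ⟨m, -, ⟨hm, h4⟩, h5⟩ := h3
  refine ⟨fun j => m.getD j 0, ?_, ?_⟩
  · rw [pr_of_list hp.checked hp.rank_eq (RootVec.simple_lt hp.checked (lt_rank hp i)) m hm]
    exact h4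
  · rw [pr_of_list hp.checked hp.rank_eq hr m hm]
    exact List.contains_iff_mem.1 h5

theorem tabE6 : ((List.range 6).all fun i => chkT chevE6 6 [1, -1] i (cwE6.getD i [])) = true := by decide +kernel
private theorem _root_.Cfsg.Agent.KOec1fc44.e0.{ku, kv} {α : Type kv} {M : List α → Sort ku} (φ : ∀ l, M l) {z : M List.nil} {s : ∀ a l, M l → M (List.cons a l)} (h0 : φ List.nil = z) (hs : ∀ a l, φ (List.cons a l) = s a l (φ l)) (l : List α) : φ l = @List.rec α M z s l := List.rec h0 (fun a l ih => (hs a l).trans (congrArg (s a l) ih)) l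
private noncomputable def _root_.Cfsg.Agent.KOec1fc44.k1.{ku0} : type_of% @List.all.{ku0} := @(fun x0 x1 x2 => @List.rec.{(ku0+1), ku0} @x0 @(fun x3 => (@x0 → @Bool) → @Bool) @(fun x3 => @Bool.true) @(fun x3 x4 x5 x6 => @Bool.rec.{1} @(fun x7 => @Bool) @Bool.false (@x5 @x6) (@x6 @x3)) @x1 @x2)
private theorem _root_.Cfsg.Agent.KOec1fc44.e1.{ku0} : @List.all.{ku0} = @_root_.Cfsg.Agent.KOec1fc44.k1.{ku0} := by delta _root_.Cfsg.Agent.KOec1fc44.k1; funext a0 a1 a2; refine (congrFun (_root_.Cfsg.Agent.KOec1fc44.e0 (fun a1 a2 => @List.all.{ku0} a0 a1 a2) ?_ (fun c0 c1 => ?_) a1) a2 :) <;> (rfl')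
private theorem _root_.Cfsg.Agent.KOec1fc44.e2.{ku} {M : Nat → Sort ku} (φ : ∀ n, M n) {z : M Nat.zero} {s : ∀ n, M n → M (Nat.succ n)} (h0 : φ Nat.zero = z) (hs : ∀ n, φ (Nat.succ n) = s n (φ n)) (n : Nat) : φ n = @Nat.rec M z s n := Nat.rec h0 (fun n ih => (hs n).trans (congrArg (s n) ih)) n
private noncomputable def _root_.Cfsg.Agent.KOec1fc44.k3 : type_of% @List.range.loop := @(fun x0 x1 => @Nat.rec.{1} @(fun x2 => (@List.{0} ℕ) → @List.{0} ℕ) @(fun x2 => @x2) @(fun x2 x3 x4 => @x3 (@x2 :: @x4)) @x0 @x1)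
private theorem _root_.Cfsg.Agent.KOec1fc44.e3 : @List.range.loop = @_root_.Cfsg.Agent.KOec1fc44.k3 := by delta _root_.Cfsg.Agent.KOec1fc44.k3; funext a0 a1; refine (congrFun (_root_.Cfsg.Agent.KOec1fc44.e2 (fun a0 a1 => @List.range.loop a0 a1) ?_ (fun c0 => ?_) a0) a1 :) <;> (rfl')
private noncomputable def _root_.Cfsg.Agent.KOec1fc44.k4 : type_of% @List.range := @(fun x0 => @Cfsg.Agent.KOec1fc44.k3 @x0 [])
private theorem _root_.Cfsg.Agent.KOec1fc44.e4 : @List.range = @_root_.Cfsg.Agent.KOec1fc44.k4 := by delta _root_.Cfsg.Agent.KOec1fc44.k4; rewrite [← Cfsg.Agent.KOec1fc44.e3]; rfl'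
private noncomputable def _root_.Cfsg.Agent.KOec1fc44.oEq.{ku} (α : Sort ku) (a b : Nat) (f t : α) : α := @Decidable.rec (a = b) (fun _ => α) (fun _ => f) (fun _ => t) (Nat.decEq a b)
private noncomputable def _root_.Cfsg.Agent.KOec1fc44.k5.{ku} (α : Sort ku) (a b : Nat) (f t : α) : α := @Bool.rec (fun _ => α) f t (Nat.beq a b)
private theorem _root_.Cfsg.Agent.KOec1fc44.e5.{ku} : @_root_.Cfsg.Agent.KOec1fc44.oEq.{ku} = @_root_.Cfsg.Agent.KOec1fc44.k5.{ku} := funext fun α => funext fun a => funext fun b => funext fun f => funext fun t => by delta _root_.Cfsg.Agent.KOec1fc44.oEq _root_.Cfsg.Agent.KOec1fc44.k5; cases h : Nat.beq a b <;> cases Nat.decEq a b <;> rename_i g <;> first | rfl | exact absurd g (Nat.ne_of_beq_eq_false h) | exact absurd (Nat.eq_of_beq_eq_true h) g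
private noncomputable def _root_.Cfsg.Agent.KOec1fc44.k6.{ku0} : type_of% @List.any.{ku0} := @(fun x0 x1 x2 => @List.rec.{(ku0+1), ku0} @x0 @(fun x3 => (@x0 → @Bool) → @Bool) @(fun x3 => @Bool.false) @(fun x3 x4 x5 x6 => @Bool.rec.{1} @(fun x7 => @Bool) (@x5 @x6) @Bool.true (@x6 @x3)) @x1 @x2)
private theorem _root_.Cfsg.Agent.KOec1fc44.e6.{ku0} : @List.any.{ku0} = @_root_.Cfsg.Agent.KOec1fc44.k6.{ku0} := by delta _root_.Cfsg.Agent.KOec1fc44.k6; funext a0 a1 a2; refine (congrFun (_root_.Cfsg.Agent.KOec1fc44.e0 (fun a1 a2 => @List.any.{ku0} a0 a1 a2) ?_ (fun c0 c1 => ?_) a1) a2 :) <;> (rfl')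
private noncomputable def _root_.Cfsg.Agent.KOec1fc44.k7.{ku0} : type_of% @List.elem.{ku0} := @(fun x0 x1 x2 x3 => @List.rec.{1, ku0} @x0 @(fun x4 => @Bool) @Bool.false @(fun x4 x5 x6 => @Bool.rec.{1} @(fun x7 => @Bool) @x6 @Bool.true (@BEq.beq.{ku0} _ @x1 @x2 @x4)) @x3)
private theorem _root_.Cfsg.Agent.KOec1fc44.e7.{ku0} : @List.elem.{ku0} = @_root_.Cfsg.Agent.KOec1fc44.k7.{ku0} := by delta _root_.Cfsg.Agent.KOec1fc44.k7; funext a0 a1 a2 a3; refine (_root_.Cfsg.Agent.KOec1fc44.e0 (fun a3 => @List.elem.{ku0} a0 a1 a2 a3) ?_ (fun c0 c1 => ?_) a3 :) <;> (rfl')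
private noncomputable def _root_.Cfsg.Agent.KOec1fc44.k8 : type_of% @Nat.decEq := @(fun x0 x1 => @Bool.rec.{1} @(fun x2 => (@Eq.{1} _ (@Nat.beq @x0 @x1) @x2) → @Decidable (@Eq.{1} _ @x0 @x1)) @(fun x2 => @Decidable.isFalse _ (@Nat.ne_of_beq_eq_false _ _ @x2)) @(fun x2 => @Decidable.isTrue _ (@Nat.eq_of_beq_eq_true _ _ @x2)) (@Nat.beq @x0 @x1) (@Eq.refl.{1} _ (@Nat.beq @x0 @x1)))
private theorem _root_.Cfsg.Agent.KOec1fc44.e8 : @Nat.decEq = @_root_.Cfsg.Agent.KOec1fc44.k8 := by delta _root_.Cfsg.Agent.KOec1fc44.k8; rfl'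
private noncomputable def _root_.Cfsg.Agent.KOec1fc44.k9 : type_of% @Int.decEq := @(fun x0 x1 => @Int.rec.{1} @(fun x2 => @Decidable (@Eq.{1} _ @x2 @x1)) @(fun x2 => @Int.rec.{1} @(fun x3 => @Decidable (@Eq.{1} _ (@Int.ofNat @x2) @x3)) @(fun x3 => @Decidable.rec.{1} _ @(fun x4 => @Decidable (@Eq.{1} _ (@Int.ofNat @x2) (@Int.ofNat @x3))) @(fun x4 => @Decidable.isFalse _ (@Int.decEq._proof_2 @x2 @x3 @x4)) @(fun x4 => @Decidable.isTrue _ (@Int.decEq._proof_1 @x2 @x3 @x4)) (@Cfsg.Agent.KOec1fc44.k8 @x2 @x3)) @(fun x3 => @Decidable.isFalse _ (@Int.decEq._proof_3 @x2 @x3)) @x1) @(fun x2 => @Int.rec.{1} @(fun x3 => @Decidable (@Eq.{1} _ (@Int.negSucc @x2) @x3)) @(fun x3 => @Decidable.isFalse _ (@Int.decEq._proof_4 @x2 @x3)) @(fun x3 => @Decidable.rec.{1} _ @(fun x4 => @Decidable (@Eq.{1} _ (@Int.negSucc @x2) (@Int.negSucc @x3))) @(fun x4 => @Decidable.isFalse _ (@Int.decEq._proof_6 @x2 @x3 @x4)) @(fun x4 => @Decidable.isTrue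 _ (@Int.decEq._proof_5 @x2 @x3 @x4)) (@Cfsg.Agent.KOec1fc44.k8 @x2 @x3)) @x1) @x0)
private theorem _root_.Cfsg.Agent.KOec1fc44.e9 : @Int.decEq = @_root_.Cfsg.Agent.KOec1fc44.k9 := by delta _root_.Cfsg.Agent.KOec1fc44.k9; rewrite [← Cfsg.Agent.KOec1fc44.e8]; rfl'
private noncomputable def _root_.Cfsg.Agent.KOec1fc44.k10 : type_of% @Int.add := @(fun x0 x1 => @Int.rec.{1} @(fun x2 => ℤ) @(fun x2 => @Int.rec.{1} @(fun x3 => ℤ) @(fun x3 => @Int.ofNat (@Nat.add @x2 @x3)) @(fun x3 => @Nat.rec.{1} @(fun x4 => ℤ) (@Int.ofNat (@Nat.sub @x2 (@Nat.succ @x3))) @(fun x4 x5 => @Int.negSucc @x4) (@Nat.sub (@Nat.succ @x3) @x2)) @x1) @(fun x2 => @Int.rec.{1} @(fun x3 => ℤ) @(fun x3 => @Nat.rec.{1} @(fun x4 => ℤ) (@Int.ofNat (@Nat.sub @x3 (@Nat.succ @x2))) @(fun x4 x5 => @Int.negSucc @x4) (@Nat.sub (@Nat.succ @x2) @x3)) @(fun x3 => @Int.negSucc (@Nat.succ (@Nat.add @x2 @x3))) @x1) @x0)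
private theorem _root_.Cfsg.Agent.KOec1fc44.e10 : @Int.add = @_root_.Cfsg.Agent.KOec1fc44.k10 := by delta _root_.Cfsg.Agent.KOec1fc44.k10; rfl'
private noncomputable def _root_.Cfsg.Agent.KOec1fc44.k11 : type_of% @Int.mul := @(fun x0 x1 => @Int.rec.{1} @(fun x2 => ℤ) @(fun x2 => @Int.rec.{1} @(fun x3 => ℤ) @(fun x3 => @Int.ofNat (@Nat.mul @x2 @x3)) @(fun x3 => @Nat.rec.{1} @(fun x4 => ℤ) (@Int.ofNat (nat_lit 0)) @(fun x4 x5 => @Int.negSucc @x4) (@Nat.mul @x2 (@Nat.succ @x3))) @x1) @(fun x2 => @Int.rec.{1} @(fun x3 => ℤ) @(fun x3 => @Nat.rec.{1} @(fun x4 => ℤ) (@Int.ofNat (nat_lit 0)) @(fun x4 x5 => @Int.negSucc @x4) (@Nat.mul (@Nat.succ @x2) @x3)) @(fun x3 => @Int.ofNat (@Nat.mul (@Nat.succ @x2) (@Nat.succ @x3))) @x1) @x0)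
private theorem _root_.Cfsg.Agent.KOec1fc44.e11 : @Int.mul = @_root_.Cfsg.Agent.KOec1fc44.k11 := by delta _root_.Cfsg.Agent.KOec1fc44.k11; rfl'
private noncomputable def _root_.Cfsg.Agent.KOec1fc44.k12 : (by first | exact type_of% @Cfsg.Agent.ChevalleyStructure.RootVecTab.packCTab | exact Unit : Sort _) := by first | (refine @Subtype.val _ (fun g => @Cfsg.Agent.ChevalleyStructure.RootVecTab.packCTab = @g) (@Subtype.mk _ _ (@(fun x0 => @Cfsg.Agent.KOec1fc44.k5.{1} ℕ (@Cfsg.Lie.ChevalleyDatum.nroots @x0) (nat_lit 12) (@Cfsg.Agent.KOec1fc44.k5.{1} ℕ (@Cfsg.Lie.ChevalleyDatum.nroots @x0) (nat_lit 8) (@Cfsg.Agent.KOec1fc44.k5.{1} ℕ (@Cfsg.Lie.ChevalleyDatum.nroots @x0) (nat_lit 24) (@Cfsg.Agent.KOec1fc44.k5.{1} ℕ (@Cfsg.Lie.ChevalleyDatum.nroots @x0) (nat_lit 48) (@Cfsg.Agent.KOec1fc44.k5.{1} ℕ (@Cfsg.Lie.ChevalleyDatum.nroots @x0) (nat_lit 72) (@Cfsg.Agent.KOec1fc44.k5.{1} ℕ (@Cfsg.Lie.ChevalleyDatum.nroots @x0) (nat_lit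 126) @Cfsg.Agent.ChevalleyStructure.RootVecTab.packCE8 @Cfsg.Agent.ChevalleyStructure.RootVecTab.packCE7) @Cfsg.Agent.ChevalleyStructure.RootVecTab.packCE6) @Cfsg.Agent.ChevalleyStructure.RootVecTab.packCF4) @Cfsg.Agent.ChevalleyStructure.RootVecTab.packCD4) @Cfsg.Agent.ChevalleyStructure.RootVecTab.packCB2) @Cfsg.Agent.ChevalleyStructure.RootVecTab.packCG2)) ?_); rewrite [← Cfsg.Agent.KOec1fc44.e5.{1}]; (try delta Cfsg.Agent.ChevalleyStructure.RootVecTab.packCTab); (try generalize @Cfsg.Agent.ChevalleyStructure.RootVecTab.packCE8 = g0); (try generalize @Cfsg.Agent.ChevalleyStructure.RootVecTab.packCE7 = g1); (try generalize @Cfsg.Agent.ChevalleyStructure.RootVecTab.packCE6 = g2); (try generalize @Cfsg.Agent.ChevalleyStructure.RootVecTab.packCF4 = g3); (try generalize @Cfsg.Agent.ChevalleyStructure.RootVecTab.packCD4 = g4); (try generalize @Cfsg.Agent.ChevalleyStructure.RootVecTab.packCB2 = g5); (try generalize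 @Cfsg.Agent.ChevalleyStructure.RootVecTab.packCG2 = g6); rfl') | exact @Cfsg.Agent.ChevalleyStructure.RootVecTab.packCTab | exact ()
private theorem _root_.Cfsg.Agent.KOec1fc44.e12 : (by first | exact @Cfsg.Agent.ChevalleyStructure.RootVecTab.packCTab = @_root_.Cfsg.Agent.KOec1fc44.k12 | exact True : Prop) := by first | (delta _root_.Cfsg.Agent.KOec1fc44.k12; exact @Subtype.property _ (fun g => @Cfsg.Agent.ChevalleyStructure.RootVecTab.packCTab = @g) _) | rfl | trivial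
private noncomputable def _root_.Cfsg.Agent.KOec1fc44.k13 : (by first | exact type_of% @Cfsg.Agent.ChevalleyStructure.RootVecTab.cart | exact Unit : Sort _) := by first | (refine @Subtype.val _ (fun g => @Cfsg.Agent.ChevalleyStructure.RootVecTab.cart = @g) (@Subtype.mk _ _ (@(fun x0 x1 x2 => @Nat.mod (@Nat.shiftRight (@Cfsg.Agent.KOec1fc44.k12 @x0) (@Nat.mul (nat_lit 4) (@Nat.add (@Nat.mul @x1 (@Cfsg.Lie.ChevalleyDatum.nroots @x0)) @x2))) (nat_lit 16))) ?_); rewrite [← Cfsg.Agent.KOec1fc44.e12]; (try delta Cfsg.Agent.ChevalleyStructure.RootVecTab.cart); (try generalize @Cfsg.Agent.ChevalleyStructure.RootVecTab.packCTab = g0); rfl') | exact @Cfsg.Agent.ChevalleyStructure.RootVecTab.cart | exact ()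
private theorem _root_.Cfsg.Agent.KOec1fc44.e13 : (by first | exact @Cfsg.Agent.ChevalleyStructure.RootVecTab.cart = @_root_.Cfsg.Agent.KOec1fc44.k13 | exact True : Prop) := by first | (delta _root_.Cfsg.Agent.KOec1fc44.k13; exact @Subtype.property _ (fun g => @Cfsg.Agent.ChevalleyStructure.RootVecTab.cart = @g) _) | rfl | trivial
private noncomputable def _root_.Cfsg.Agent.KOec1fc44.k14 : (by first | exact type_of% @Cfsg.Agent.H225.PPow.prL | exact Unit : Sort _) := by first | (refine @Subtype.val _ (fun g => @Cfsg.Agent.H225.PPow.prL = @g) (@Subtype.mk _ _ (@(fun x0 x1 x2 x3 => @List.rec.{1, 0} ℤ @(fun x4 => ℕ → ℤ) @(fun x4 => @Int.ofNat (nat_lit 0)) @(fun x4 x5 x6 x7 => @Cfsg.Agent.KOec1fc44.k10 (@Cfsg.Agent.KOec1fc44.k11 @x4 (@Cfsg.Agent.KOec1fc44.k10 (@Int.ofNat (@Cfsg.Agent.KOec1fc44.k13 @x0 @x7 @x1)) (@Nat.rec.{1} @(fun x8 => ℤ) (@Int.ofNat (nat_lit 0)) @(fun x8 x9 => @Int.negSucc @x8) (nat_lit 8)))) (@x6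 (@Nat.add @x7 (nat_lit 1)))) @x2 @x3)) ?_); rewrite [← Cfsg.Agent.KOec1fc44.e13, ← Cfsg.Agent.KOec1fc44.e11, ← Cfsg.Agent.KOec1fc44.e10]; funext a0 a1 a2 a3; refine (congrFun (_root_.Cfsg.Agent.KOec1fc44.e0 (fun a2 a3 => @Cfsg.Agent.H225.PPow.prL a0 a1 a2 a3) ?_ (fun c0 c1 => ?_) a2) a3 :) <;> ((try delta Cfsg.Agent.H225.PPow.prL Cfsg.Agent.H225.PPow.prL._f); (try generalize @Cfsg.Agent.ChevalleyStructure.RootVecTab.cart = g0); rfl')) | exact @Cfsg.Agent.H225.PPow.prL | exact ()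
private theorem _root_.Cfsg.Agent.KOec1fc44.e14 : (by first | exact @Cfsg.Agent.H225.PPow.prL = @_root_.Cfsg.Agent.KOec1fc44.k14 | exact True : Prop) := by first | (delta _root_.Cfsg.Agent.KOec1fc44.k14; exact @Subtype.property _ (fun g => @Cfsg.Agent.H225.PPow.prL = @g) _) | rfl | trivial
private noncomputable def _root_.Cfsg.Agent.KOec1fc44.k20 : (by first | exact type_of% @Cfsg.Agent.H225.PPow.chkT | exact Unit : Sort _) := by first | (refine @Subtype.val _ (fun g => @Cfsg.Agent.H225.PPow.chkT = @g) (@Subtype.mk _ _ (@(fun (x0 : @Cfsg.Lie.ChevalleyDatum) (x1 : @Nat) (x2 : @List.{0} @Int) (x3 : @Nat) (x4 : @List.{0} (@List.{0} @Int)) => @Cfsg.Agent.KOec1fc44.k1.{0} @Nat (@Cfsg.Agent.KOec1fc44.k3 (@Cfsg.Lie.ChevalleyDatum.nroots @x0) (@List.nil.{0} @Nat)) @(fun (x5 : @Nat) => @Bool.rec.{1} @(fun (x6 : @Bool) => @Bool) (@Cfsg.Agent.KOec1fc44.k6.{0} (@List.{0} @Int) @x4 @(fun (x6 : @List.{0} @Int) => @Bool.rec.{1}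 @(fun (x7 : @Bool) => @Bool) @Bool.false (@Cfsg.Agent.KOec1fc44.k7.{0} @Int (@BEq.mk.{0} @Int @(fun (x7 : @Int) (x8 : @Int) => @Decidable.rec.{1} (@Eq.{1} @Int @x7 @x8) @(fun (x9 : @Decidable (@Eq.{1} @Int @x7 @x8)) => @Bool) @(fun (x9 : @Not (@Eq.{1} @Int @x7 @x8)) => @Bool.false) @(fun (x9 : @Eq.{1} @Int @x7 @x8) => @Bool.true) (@Cfsg.Agent.KOec1fc44.k9 @x7 @x8))) (@Cfsg.Agent.KOec1fc44.k14 @x0 @x5 @x6 (nat_lit 0)) @x2) (@Bool.rec.{1} @(fun (x7 : @Bool) => @Bool) @Bool.false (@Decidable.rec.{1} (@Eq.{1} @Int (@Cfsg.Agent.KOec1fc44.k14 @x0 (@Cfsg.Lie.ChevalleyDatum.simple @x0 @x3) @x6 (@OfNat.ofNat.{0} @Nat (nat_lit 0) (@instOfNatNat (nat_lit 0)))) (@OfNat.ofNat.{0} @Int (nat_lit 0) (@instOfNat (nat_lit 0)))) @(fun (x7 : @Decidable (@Eq.{1} @Int (@Cfsg.Agent.KOec1fc44.k14 @x0 (@Cfsg.Lie.ChevalleyDatum.simple @x0 @x3) @x6 (@OfNat.ofNat.{0} @Nat (nat_lit 0) (@instOfNatNat (nat_lit 0)))) (@OfNat.ofNat.{0} @Int (nat_lit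 0) (@instOfNat (nat_lit 0))))) => @Bool) @(fun (x7 : @Not (@Eq.{1} @Int (@Cfsg.Agent.KOec1fc44.k14 @x0 (@Cfsg.Lie.ChevalleyDatum.simple @x0 @x3) @x6 (@OfNat.ofNat.{0} @Nat (nat_lit 0) (@instOfNatNat (nat_lit 0)))) (@OfNat.ofNat.{0} @Int (nat_lit 0) (@instOfNat (nat_lit 0))))) => @Bool.false) @(fun (x7 : @Eq.{1} @Int (@Cfsg.Agent.KOec1fc44.k14 @x0 (@Cfsg.Lie.ChevalleyDatum.simple @x0 @x3) @x6 (@OfNat.ofNat.{0} @Nat (nat_lit 0) (@instOfNatNat (nat_lit 0)))) (@OfNat.ofNat.{0} @Int (nat_lit 0) (@instOfNat (nat_lit 0)))) => @Bool.true) (@Cfsg.Agent.KOec1fc44.k9 (@Cfsg.Agent.KOec1fc44.k14 @x0 (@Decidable.rec.{1} (@LT.lt.{0} @Nat @instLTNat @x3 (@Array.size.{0} @Nat (@Cfsg.Lie.ChevalleyDatum.simpleIdx @x0))) @(fun (x7 : @Decidable (@LT.lt.{0} @Nat @instLTNat @x3 (@Array.size.{0} @Nat (@Cfsg.Lie.ChevalleyDatum.simpleIdx @x0)))) => @Nat) @(fun (x7 : @Not (@LT.lt.{0} @Nat @instLTNat @x3 (@Array.size.{0} @Nat (@Cfsg.Lie.ChevalleyDatum.simpleIdx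 @x0)))) => nat_lit 0) @(fun (x7 : @LT.lt.{0} @Nat @instLTNat @x3 (@Array.size.{0} @Nat (@Cfsg.Lie.ChevalleyDatum.simpleIdx @x0))) => @List.get.{0} @Nat (@Array.toList.{0} @Nat (@Cfsg.Lie.ChevalleyDatum.simpleIdx @x0)) (@Fin.mk (@List.length.{0} @Nat (@Array.toList.{0} @Nat (@Cfsg.Lie.ChevalleyDatum.simpleIdx @x0))) @x3 @x7)) (@Nat.decLe (@Nat.succ @x3) (@List.length.{0} @Nat (@Array.toList.{0} @Nat (@Cfsg.Lie.ChevalleyDatum.simpleIdx @x0))))) @x6 (nat_lit 0)) (@Int.ofNat (nat_lit 0)))) (@Cfsg.Agent.KOec1fc44.k5.{1} @Bool (@List.length.{0} @Int @x6) @x1 @Bool.false @Bool.true)))) @Bool.true (@Bool.rec.{1} @(fun (x6 : @Bool) => @Bool) (@Cfsg.Agent.KOec1fc44.k5.{1} @Bool @x5 (@Decidable.rec.{1} (@LT.lt.{0} @Nat @instLTNat (@Cfsg.Lie.ChevalleyDatum.simple @x0 @x3) (@Array.size.{0} @Nat (@Cfsg.Lie.ChevalleyDatum.negIdx @x0))) @(fun (x6 : @Decidable (@LT.lt.{0} @Nat @instLTNat (@Cfsg.Lie.ChevalleyDatum.simple @x0 @x3)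 (@Array.size.{0} @Nat (@Cfsg.Lie.ChevalleyDatum.negIdx @x0)))) => @Nat) @(fun (x6 : @Not (@LT.lt.{0} @Nat @instLTNat (@Cfsg.Lie.ChevalleyDatum.simple @x0 @x3) (@Array.size.{0} @Nat (@Cfsg.Lie.ChevalleyDatum.negIdx @x0)))) => nat_lit 0) @(fun (x6 : @LT.lt.{0} @Nat @instLTNat (@Cfsg.Lie.ChevalleyDatum.simple @x0 @x3) (@Array.size.{0} @Nat (@Cfsg.Lie.ChevalleyDatum.negIdx @x0))) => @List.get.{0} @Nat (@Array.toList.{0} @Nat (@Cfsg.Lie.ChevalleyDatum.negIdx @x0)) (@Fin.mk (@List.length.{0} @Nat (@Array.toList.{0} @Nat (@Cfsg.Lie.ChevalleyDatum.negIdx @x0))) (@Decidable.rec.{1} (@LT.lt.{0} @Nat @instLTNat @x3 (@Array.size.{0} @Nat (@Cfsg.Lie.ChevalleyDatum.simpleIdx @x0))) @(fun (x7 : @Decidable (@LT.lt.{0} @Nat @instLTNat @x3 (@Array.size.{0} @Nat (@Cfsg.Lie.ChevalleyDatum.simpleIdx @x0)))) => @Nat) @(fun (x7 : @Not (@LT.lt.{0} @Nat @instLTNat @x3 (@Array.size.{0} @Nat (@Cfsg.Lie.ChevalleyDatum.simpleIdx @x0)))) =>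 nat_lit 0) @(fun (x7 : @LT.lt.{0} @Nat @instLTNat @x3 (@Array.size.{0} @Nat (@Cfsg.Lie.ChevalleyDatum.simpleIdx @x0))) => @List.get.{0} @Nat (@Array.toList.{0} @Nat (@Cfsg.Lie.ChevalleyDatum.simpleIdx @x0)) (@Fin.mk (@List.length.{0} @Nat (@Array.toList.{0} @Nat (@Cfsg.Lie.ChevalleyDatum.simpleIdx @x0))) @x3 @x7)) (@Nat.decLe (@Nat.succ @x3) (@List.length.{0} @Nat (@Array.toList.{0} @Nat (@Cfsg.Lie.ChevalleyDatum.simpleIdx @x0))))) @x6)) (@Nat.decLe (@Nat.succ (@Decidable.rec.{1} (@LT.lt.{0} @Nat @instLTNat @x3 (@Array.size.{0} @Nat (@Cfsg.Lie.ChevalleyDatum.simpleIdx @x0))) @(fun (x6 : @Decidable (@LT.lt.{0} @Nat @instLTNat @x3 (@Array.size.{0} @Nat (@Cfsg.Lie.ChevalleyDatum.simpleIdx @x0)))) => @Nat) @(fun (x6 : @Not (@LT.lt.{0} @Nat @instLTNat @x3 (@Array.size.{0} @Nat (@Cfsg.Lie.ChevalleyDatum.simpleIdx @x0)))) => nat_lit 0) @(fun (x6 : @LT.lt.{0} @Nat @instLTNat @x3 (@Array.size.{0} @Nat (@Cfsg.Lie.ChevalleyDatum.simpleIdx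 @x0))) => @List.get.{0} @Nat (@Array.toList.{0} @Nat (@Cfsg.Lie.ChevalleyDatum.simpleIdx @x0)) (@Fin.mk (@List.length.{0} @Nat (@Array.toList.{0} @Nat (@Cfsg.Lie.ChevalleyDatum.simpleIdx @x0))) @x3 @x6)) (@Nat.decLe (@Nat.succ @x3) (@List.length.{0} @Nat (@Array.toList.{0} @Nat (@Cfsg.Lie.ChevalleyDatum.simpleIdx @x0)))))) (@List.length.{0} @Nat (@Array.toList.{0} @Nat (@Cfsg.Lie.ChevalleyDatum.negIdx @x0))))) @Bool.false @Bool.true) @Bool.true (@Cfsg.Agent.KOec1fc44.k5.{1} @Bool @x5 (@Decidable.rec.{1} (@LT.lt.{0} @Nat @instLTNat @x3 (@Array.size.{0} @Nat (@Cfsg.Lie.ChevalleyDatum.simpleIdx @x0))) @(fun (x6 : @Decidable (@LT.lt.{0} @Nat @instLTNat @x3 (@Array.size.{0} @Nat (@Cfsg.Lie.ChevalleyDatum.simpleIdx @x0)))) => @Nat) @(fun (x6 : @Not (@LT.lt.{0} @Nat @instLTNat @x3 (@Array.size.{0} @Nat (@Cfsg.Lie.ChevalleyDatum.simpleIdx @x0)))) => nat_lit 0) @(fun (x6 : @LT.lt.{0} @Nat @instLTNat @x3 (@Array.size.{0}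 @Nat (@Cfsg.Lie.ChevalleyDatum.simpleIdx @x0))) => @List.get.{0} @Nat (@Array.toList.{0} @Nat (@Cfsg.Lie.ChevalleyDatum.simpleIdx @x0)) (@Fin.mk (@List.length.{0} @Nat (@Array.toList.{0} @Nat (@Cfsg.Lie.ChevalleyDatum.simpleIdx @x0))) @x3 @x6)) (@Nat.decLe (@Nat.succ @x3) (@List.length.{0} @Nat (@Array.toList.{0} @Nat (@Cfsg.Lie.ChevalleyDatum.simpleIdx @x0))))) @Bool.false @Bool.true))))) ?_); rewrite [← Cfsg.Agent.KOec1fc44.e5.{1}, ← Cfsg.Agent.KOec1fc44.e14, ← Cfsg.Agent.KOec1fc44.e9, ← Cfsg.Agent.KOec1fc44.e7.{0}, ← Cfsg.Agent.KOec1fc44.e6.{0}, ← Cfsg.Agent.KOec1fc44.e3, ← Cfsg.Agent.KOec1fc44.e1.{0}]; (try delta Cfsg.Agent.H225.PPow.chkT Cfsg.Lie.ChevalleyDatum.simple Cfsg.Lie.ChevalleyDatum.neg); (try generalize @Cfsg.Agent.H225.PPow.prL = g0); rfl') | exact @Cfsg.Agent.H225.PPow.chkT | exact ()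
private theorem _root_.Cfsg.Agent.KOec1fc44.e20 : (by first | exact @Cfsg.Agent.H225.PPow.chkT = @_root_.Cfsg.Agent.KOec1fc44.k20 | exact True : Prop) := by first | (delta _root_.Cfsg.Agent.KOec1fc44.k20; exact @Subtype.property _ (fun g => @Cfsg.Agent.H225.PPow.chkT = @g) _) | rfl | trivial
private noncomputable def _root_.Cfsg.Agent.KOec1fc44.k22.{ku0} : type_of% @List.get?Internal.{ku0} := @(fun x0 x1 x2 => @List.rec.{(ku0+1), ku0} @x0 @(fun x3 => ℕ → @Option.{ku0} @x0) @(fun x3 => @Option.none.{ku0} _) @(fun x3 x4 x5 x6 => @Nat.rec.{(ku0+1)} @(fun x7 => @Option.{ku0} @x0) (@Option.some.{ku0} _ @x3) @(fun x7 x8 => @x5 @x7) @x6) @x1 @x2)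
private theorem _root_.Cfsg.Agent.KOec1fc44.e22.{ku0} : @List.get?Internal.{ku0} = @_root_.Cfsg.Agent.KOec1fc44.k22.{ku0} := by delta _root_.Cfsg.Agent.KOec1fc44.k22; funext a0 a1 a2; refine (congrFun (_root_.Cfsg.Agent.KOec1fc44.e0 (fun a1 a2 => @List.get?Internal.{ku0} a0 a1 a2) ?_ (fun c0 c1 => ?_) a1) a2 :) <;> [(funext b0; (rfl')); (funext b0; (cases b0 with | @zero  => (rfl') | @succ b0_0 => (rfl')))]
private noncomputable def _root_.Cfsg.Agent.KOec1fc44.k23.{ku0} : type_of% @List.getD.{ku0} := @(fun x0 x1 x2 x3 => @Option.rec.{(ku0+1), ku0} @x0 @(fun x4 => @x0) @x3 @(fun x4 => @x4) (@Cfsg.Agent.KOec1fc44.k22.{ku0} _ @x1 @x2))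
private theorem _root_.Cfsg.Agent.KOec1fc44.e23.{ku0} : @List.getD.{ku0} = @_root_.Cfsg.Agent.KOec1fc44.k23.{ku0} := by delta _root_.Cfsg.Agent.KOec1fc44.k23; rewrite [← Cfsg.Agent.KOec1fc44.e22.{ku0}]; rfl'

theorem tabE7 : ((List.range 7).all fun i => chkT chevE7 7 [1, -1] i (cwE7.getD i [])) = true := by (first | (rewrite [Cfsg.Agent.KOec1fc44.e1.{0}, Cfsg.Agent.KOec1fc44.e4, Cfsg.Agent.KOec1fc44.e20, Cfsg.Agent.KOec1fc44.e23.{0}]; decide +kernel) | decide +kernel)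
theorem tabE8 : ((List.range 8).all fun i => chkT chevE8 8 [1, -1] i (cwE8.getD i [])) = true := by (first | (rewrite [Cfsg.Agent.KOec1fc44.e1.{0}, Cfsg.Agent.KOec1fc44.e4, Cfsg.Agent.KOec1fc44.e20, Cfsg.Agent.KOec1fc44.e23.{0}]; decide +kernel) | decide +kernel)
theorem tabF4 : ((List.range 4).all fun i => chkT chevF4 4 [1, -1, 2, -2] i (cwF4.getD i [])) = true := by
  decide +kernel
theorem tabF4S : ((List.range 2).all fun i => chkT chevF4 4 [1, -1] i (cwF4S.getD i [])) = true := by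
  decide +kernel
theorem tabG2S : ((List.range 1).all fun i => chkT chevG2 2 [1, -1, 2, -2] i (cwG2S.getD i [])) = true := by
  decide +kernel
theorem tabG2 : ((List.range 2).all fun i => chkT chevG2 2 [1, -1, 2, -2, 3, -3] i (cwG2.getD i [])) = true := by
  decide +kernel

theorem of_tab {D : ChevalleyDatum} {l : ℕ} {M : CoxeterMatrix (Fin l)} (hp : IsType D l M) {E : List ℤ} {k : ℕ}
    {L : List (List (List ℤ))} (h : ((List.range k).all fun i => chkT D l E i (L.getD i [])) = true) (i : Fin l)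
    (hi : (i : ℕ) < k) : SepT D l E i :=
  sepT_of hp ((List.all_eq_true.1 h) i (List.mem_range.2 hi))

end Cfsg.Agent.H225.PPow
end

-- part: H225/PPow/ChevE
section
/-!
# Subgroups of `p`-power index of `E₆(q), E₇(q), E₈(q)`, `q ≥ 3`, in the natural characteristic (helper225)
-/

set_option autoImplicit false
set_option linter.unusedSectionVars false

namespace Cfsg.Agent.H225.PPow

open CoxeterSystem Subgroup Cfsg Cfsg.Lie Cfsg.Lie.ChevalleyDatum
open Cfsg.Agent.ChevalleyStructure Cfsg.Agent.ChevalleyStructure.Elts Cfsg.Agent.ChevalleyStructure.CoxeterGeom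
  Cfsg.Agent.ChevalleyStructure.CoxeterGeomTypes Cfsg.Agent.ChevalleyStructure.NPerm
open Cfsg.Agent.Tits.Roots Cfsg.Agent.Tits.Core Cfsg.Agent.Tits.Exchange Cfsg.Agent.Nodes.Reps
  Cfsg.Agent.Nodes.BNOf Cfsg.Agent.Nodes.Unique Cfsg.Agent.Nodes.StabComb
  Cfsg.Agent.Nodes.RGDChev Cfsg.Agent.Nodes.Bruhat Cfsg.Agent.Nodes.Coroot Cfsg.Agent.KFacts.RgdTI
open Cfsg.Agent.KFacts.RgdField Cfsg.Agent.KFacts.RgdChevCoord Cfsg.Agent.BpExc.TorCent Cfsg.Agent.BpExc.TorChev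
open Cfsg.Agent.KFacts.SLRow.Def

universe u

section Words

variable {D : ChevalleyDatum} {l : ℕ} {M : CoxeterMatrix (Fin l)} (hp : IsType D l M)
  {W : Type*} [Group W] (cs : CoxeterSystem M W)

/-- the action of a word on the numbers of the roots -/
def wact (D : ChevalleyDatum) {l : ℕ} (ω : List (Fin l)) (r : ℕ) : ℕ := ω.foldr (fun i s => D.reflectRoot i s) r

include hp in
theorem wact_lt (ω : List (Fin l)) {r : ℕ} (hr : r < D.nroots) : wact D ω r < D.nroots := by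
  induction ω with
  | nil => exact hr
  | cons i ω ih => exact reflectRoot_lt hp.inList (lt_rank hp i) ih

theorem rep_word (ω : List (Fin l)) {r : ℕ} (hr : r < D.nroots) :
    rep cs hp.isCartan (cs.wordProd ω) (vec D l r) = vec D l (wact D ω r) := by
  induction ω with
  | nil => rw [wordProd_nil, map_one, Module.End.one_apply]; rfl
  | cons i ω ih =>
    rw [wordProd_cons, rep_mul_apply, ih, rep_vec hp cs i (wact_lt hp ω hr)]
    rfl

/-- the `n`-fold repetition -/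
def reps {l : ℕ} (ω : List (Fin l)) : ℕ → List (Fin l)
  | 0 => []
  | n + 1 => ω ++ reps ω n

theorem wordProd_reps (ω : List (Fin l)) (n : ℕ) : cs.wordProd (reps ω n) = cs.wordProd ω ^ n := by
  induction n with
  | zero => rw [reps, wordProd_nil, pow_zero]
  | succ n ih => rw [reps, wordProd_append, ih, pow_succ']

include hp cs in
/-- an element of order `n` -/
theorem exists_order (n : ℕ) (ω : List (Fin l)) (h1 : ∀ i : Fin l, wact D (reps ω n) (D.simple i) = D.simple i)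
    {j : Fin l} (h2 : wact D ω (D.simple j) ≠ D.simple j) : ∃ w : W, w ^ n = 1 ∧ w ≠ 1 := by
  refine ⟨cs.wordProd ω, ?_, fun h3 => h2 ?_⟩
  · rw [← wordProd_reps cs]
    refine eq_one_of_nonneg cs hp.isCartan _ fun i => ?_
    change 0 ≤ rep cs hp.isCartan (cs.wordProd (reps ω n)) (sr i)
    rw [← vec_simple hp i, rep_word hp cs _ (RootVec.simple_lt hp.checked (lt_rank hp i)), h1, vec_simple hp i]
    exact sr_nonneg i
  · have h4 := rep_word hp cs ω (RootVec.simple_lt hp.checked (lt_rank hp j))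
    rw [h3, map_one, Module.End.one_apply] at h4
    exact (vec_inj hp (RootVec.simple_lt hp.checked (lt_rank hp j))
      (wact_lt hp ω (RootVec.simple_lt hp.checked (lt_rank hp j))) h4).symm

end Words

theorem fut_w0 {I W : Type*} [Fintype I] [DecidableEq I] [Group W] [Finite W] {M : CoxeterMatrix I}
    {cs : CoxeterSystem M W} {A : I → I → ℤ} {h : IsCartan M A} : Fut cs h (w0 cs) = ∅ := by
  rw [← PW_w0 (cs := cs) (h := h)]
  ext x
  simp only [Fut, PW, w0_inv, Set.mem_ofPred_eq]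

/-- **`E₆, E₇, E₈`, `q ≥ 3`.** -/
theorem good_E {D : ChevalleyDatum} {l : ℕ} {M : CoxeterMatrix (Fin l)} (hp : IsType D l M) (h4 : ∀ i j, M i j ≠ 4)
    (h6 : ∀ i j, M i j ≠ 6) (hirr : Conn M) (hl : 3 ≤ l) (hT : ∀ i, SepT D l [1, -1] i)
    (hD : D ∈ [chevD4, chevF4, chevE6, chevE7, chevE8]) (ω₃ ω₅ : List (Fin l))
    (h3 : (∀ i : Fin l, wact D (reps ω₃ 3) (D.simple i) = D.simple i) ∧ ∃ j : Fin l, wact D ω₃ (D.simple j) ≠ D.simple j)
    (h5 : (∀ i : Fin l, wact D (reps ω₅ 5) (D.simple i) = D.simple i) ∧ ∃ j : Fin l, wact D ω₅ (D.simple j) ≠ D.simple j)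
    (hm : ∃ i : Fin l, ∃ m : Fin l → ℤ, pr D l m (D.simple i) = 1)
    (K : Type u) [Field K] [Finite K] (p : ℕ) [Fact p.Prime] [CharP K p] (hq : 3 ≤ Nat.card K) :
    H408.Core.Good p ↥(D.group K) := by
  let cs := M.toCoxeterSystem
  have hW : Finite M.Group := finite_W hp cs
  have R := rgd (K := K) hp cs p
  have hQE : QE K [1, -1] := by
    intro c hc
    simp only [List.mem_cons, List.not_mem_nil, or_false] at hc
    intro hd
    have h1 : ((Nat.card K - 1 : ℕ) : ℤ) ∣ 1 := by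
      rcases hc with rfl | rfl
      · exact hd
      · exact (Int.dvd_neg).1 hd
    have h2 := Int.le_of_dvd one_pos h1
    omega
  have hsim : IsSimpleGroup ↥(D.group K) := (Cfsg.Agent.S1054.result (F := K) D hD).1
  have hLR := KFacts.RgdKap.lr_of h4 h6 hirr (by rw [Fintype.card_fin]; exact hl) R
  refine good_of (R := R) (GG_top hp cs) fun H k C hTH => ?_
  have h0l : 0 < l := by omega
  have hUT := cent_T hp cs p (K := K) hQE (i := ⟨0, by omega⟩) (j := ⟨1, by omega⟩) (by simp) (hT _) (hT _)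
  -- a root element suffices
  have fin1 : ∀ x, IsRoot cs hp.isCartan x → ∀ c ∈ H, c ∈ XX D l K x → c ≠ 1 → H = ⊤ :=
    fun x hx c hc hcx hc1 => C.eq_top_of_LR (hLR x hx) hc hcx hc1
  by_cases hp2 : p = 2
  · obtain ⟨c, hc, hcx, hc1⟩ := C.two hp2 hTH hUT (i := ⟨0, h0l⟩) (sep_simple hp cs p hQE (hT _))
    exact fin1 _ (isRoot_sr cs _ _) c hc hcx hc1
  by_cases hp35 : p = 3 ∨ p = 5
  · obtain ⟨w, hw, hw1⟩ : ∃ w : M.Group, w ^ p = 1 ∧ w ≠ 1 := by
      rcases hp35 with rfl | rfl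
      · obtain ⟨j, hj⟩ := h3.2
        exact exists_order hp cs 3 ω₃ h3.1 hj
      · obtain ⟨j, hj⟩ := h5.2
        exact exists_order hp cs 5 ω₅ h5.1 hj
    have h1 := C.inf_ne_bot hTH hUT hw hw1
    obtain ⟨x, hx, hx0, -, c, hc, hcx, hc1⟩ := C.exists_root hTH (w0 cs) (by
      rw [fut_w0]
      intro h2
      apply h1
      refine h2.trans (RGD.Sup_le fun z hz => ?_)
      simp at hz) (fun x hx hx0 _ => by
        obtain ⟨w, i, rfl⟩ := hx
        exact sep hp cs p hQE (hT i) hx0)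
    exact fin1 x hx c hc hcx hc1
  · obtain ⟨i, hm⟩ := hm
    have hq7 : 6 ≤ Nat.card ↥(XX D l K (sr i)) := by
      rw [card_X hp p]
      have : Fintype K := Fintype.ofFinite K
      obtain ⟨m, hm, e⟩ := FiniteField.card K p
      rw [Nat.card_eq_fintype_card, e]
      have h2 := (Fact.out : p.Prime).two_le
      have h7 : 6 ≤ p := by
        by_contra hcon
        have : p = 4 := by omega
        rw [this] at hm
        exact absurd hm (by decide)
      calc 6 ≤ p := h7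
        _ = p ^ 1 := (pow_one p).symm
        _ ≤ p ^ (m : ℕ) := Nat.pow_le_pow_right (by omega) m.pos
    obtain ⟨c, hc, hcx, hc1⟩ := C.panel hTH (TT_comm hp) hUT (i := i) (sep_simple hp cs p hQE (hT _))
      (trans hp p hm) hq7
    exact fin1 _ (isRoot_sr cs _ _) c hc hcx hc1

end Cfsg.Agent.H225.PPow
end

-- part: H225/PPow/ExcE
section
/-!
# Subgroups of `p`-power index of `E₆(q), E₇(q), E₈(q)`, `q ≥ 3`, in the natural characteristic (helper225)

`good_E6`, `good_E7`, `good_E8`.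
-/

set_option autoImplicit false

namespace Cfsg.Agent.H225.PPow

open Cfsg Cfsg.Lie Cfsg.Lie.ChevalleyDatum
open Cfsg.Agent.ChevalleyStructure Cfsg.Agent.ChevalleyStructure.Elts Cfsg.Agent.ChevalleyStructure.CoxeterGeom
  Cfsg.Agent.ChevalleyStructure.CoxeterGeomTypes Cfsg.Agent.ChevalleyStructure.NPerm
  Cfsg.Agent.ChevalleyStructure.RootVec Cfsg.Agent.ChevalleyStructure.RootVecTab
open Cfsg.Agent.Nodes.RGDChev
open Cfsg.Agent.KFacts.SLRow.Def

universe u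

theorem type_E6 : IsType chevE6 6 CoxeterMatrix.E₆ := by simp [IsType, typeList]
theorem type_E7 : IsType chevE7 7 CoxeterMatrix.E₇ := by simp [IsType, typeList]
theorem type_E8 : IsType chevE8 8 CoxeterMatrix.E₈ := by simp [IsType, typeList]

theorem w3E6 : (∀ i : Fin 6, wact chevE6 (reps ([0, 2] : List (Fin 6)) 3) (chevE6.simple i) = chevE6.simple i) ∧
    ∃ j : Fin 6, wact chevE6 ([0, 2] : List (Fin 6)) (chevE6.simple j) ≠ chevE6.simple j := by (delta Cfsg.Agent.H225.PPow.wact Cfsg.Lie.ChevalleyDatum.chainRoot Cfsg.Lie.ChevalleyDatum.reflectRoot; rewrite [Cfsg.Agent.ChevFast.E6.cartan, Cfsg.Agent.ChevFast.E6.chainEntry, Cfsg.Agent.ChevFast.E6.neg]; decide +kernel)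
theorem w5E6 : (∀ i : Fin 6, wact chevE6 (reps ([0, 2, 3, 4] : List (Fin 6)) 5) (chevE6.simple i) = chevE6.simple i) ∧
    ∃ j : Fin 6, wact chevE6 ([0, 2, 3, 4] : List (Fin 6)) (chevE6.simple j) ≠ chevE6.simple j := by (delta Cfsg.Agent.H225.PPow.wact Cfsg.Lie.ChevalleyDatum.chainRoot Cfsg.Lie.ChevalleyDatum.reflectRoot; rewrite [Cfsg.Agent.ChevFast.E6.cartan, Cfsg.Agent.ChevFast.E6.chainEntry, Cfsg.Agent.ChevFast.E6.neg]; decide +kernel)
theorem w3E7 : (∀ i : Fin 7, wact chevE7 (reps ([0, 2] : List (Fin 7)) 3) (chevE7.simple i) = chevE7.simple i) ∧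
    ∃ j : Fin 7, wact chevE7 ([0, 2] : List (Fin 7)) (chevE7.simple j) ≠ chevE7.simple j := by (delta Cfsg.Agent.H225.PPow.wact Cfsg.Lie.ChevalleyDatum.chainRoot Cfsg.Lie.ChevalleyDatum.reflectRoot; rewrite [Cfsg.Agent.ChevFast.E7.cartan, Cfsg.Agent.ChevFast.E7.chainEntry, Cfsg.Agent.ChevFast.E7.neg]; decide +kernel)
theorem w5E7 : (∀ i : Fin 7, wact chevE7 (reps ([0, 2, 3, 4] : List (Fin 7)) 5) (chevE7.simple i) = chevE7.simple i) ∧
    ∃ j : Fin 7, wact chevE7 ([0, 2, 3, 4] : List (Fin 7)) (chevE7.simple j) ≠ chevE7.simple j := by (delta Cfsg.Agent.H225.PPow.wact Cfsg.Lie.ChevalleyDatum.chainRoot Cfsg.Lie.ChevalleyDatum.reflectRoot; rewrite [Cfsg.Agent.ChevFast.E7.cartan, Cfsg.Agent.ChevFast.E7.chainEntry, Cfsg.Agent.ChevFast.E7.neg]; open scoped Cfsg.Agent.ChevFast.Lin in decide +kernel)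
theorem w3E8 : (∀ i : Fin 8, wact chevE8 (reps ([0, 2] : List (Fin 8)) 3) (chevE8.simple i) = chevE8.simple i) ∧
    ∃ j : Fin 8, wact chevE8 ([0, 2] : List (Fin 8)) (chevE8.simple j) ≠ chevE8.simple j := by (delta Cfsg.Agent.H225.PPow.wact Cfsg.Lie.ChevalleyDatum.chainRoot Cfsg.Lie.ChevalleyDatum.reflectRoot; rewrite [Cfsg.Agent.ChevFast.E8.cartan, Cfsg.Agent.ChevFast.E8.chainEntry, Cfsg.Agent.ChevFast.E8.neg]; decide +kernel)
theorem w5E8 : (∀ i : Fin 8, wact chevE8 (reps ([0, 2, 3, 4] : List (Fin 8)) 5) (chevE8.simple i) = chevE8.simple i) ∧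
    ∃ j : Fin 8, wact chevE8 ([0, 2, 3, 4] : List (Fin 8)) (chevE8.simple j) ≠ chevE8.simple j := by (delta Cfsg.Agent.H225.PPow.wact Cfsg.Lie.ChevalleyDatum.chainRoot Cfsg.Lie.ChevalleyDatum.reflectRoot; rewrite [Cfsg.Agent.ChevFast.E8.cartan, Cfsg.Agent.ChevFast.E8.chainEntry, Cfsg.Agent.ChevFast.E8.neg]; decide +kernel)

theorem exists_pr {D : ChevalleyDatum} {l : ℕ} {M : CoxeterMatrix (Fin l)} (hp : IsType D l M) {i : Fin l}
    (m : List ℤ) (hm : m.length = l) (h : prL D (D.simple i) m 0 = 1) :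
    ∃ m : Fin l → ℤ, pr D l m (D.simple i) = 1 :=
  ⟨fun j => m.getD j 0, by
    rw [pr_of_list hp.checked hp.rank_eq (RootVec.simple_lt hp.checked (lt_rank hp i)) m hm]
    exact h⟩

theorem pr_E6 : ∃ i : Fin 6, ∃ m : Fin 6 → ℤ, pr chevE6 6 m (chevE6.simple i) = 1 :=
  ⟨0, exists_pr type_E6 [0, 0, -1, 0, 0, 0] rfl (by decide +kernel)⟩
theorem pr_E7 : ∃ i : Fin 7, ∃ m : Fin 7 → ℤ, pr chevE7 7 m (chevE7.simple i) = 1 :=
  ⟨0, exists_pr type_E7 [0, 0, -1, 0, 0, 0, 0] rfl (by decide +kernel)⟩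
theorem pr_E8 : ∃ i : Fin 8, ∃ m : Fin 8 → ℤ, pr chevE8 8 m (chevE8.simple i) = 1 :=
  ⟨0, exists_pr type_E8 [0, 0, -1, 0, 0, 0, 0, 0] rfl (by decide +kernel)⟩

set_option backward.isDefEq.respectTransparency false in
set_option maxRecDepth 100000 in
theorem ne6 : ∀ i j : Fin 6, CoxeterMatrix.E₆ i j ≠ 4 ∧ CoxeterMatrix.E₆ i j ≠ 6 := by decide
set_option backward.isDefEq.respectTransparency false in
set_option maxRecDepth 100000 in
theorem ne7 : ∀ i j : Fin 7, CoxeterMatrix.E₇ i j ≠ 4 ∧ CoxeterMatrix.E₇ i j ≠ 6 := by decide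
set_option backward.isDefEq.respectTransparency false in
set_option maxRecDepth 100000 in
theorem ne8 : ∀ i j : Fin 8, CoxeterMatrix.E₈ i j ≠ 4 ∧ CoxeterMatrix.E₈ i j ≠ 6 := by decide

theorem conn_E6 : Conn CoxeterMatrix.E₆ :=
  conn_of_parent ![2, 1, 1, 0, 1, 2] ![2, 3, 3, 3, 3, 4] (by decide) (by decide) (by decide)
theorem conn_E7 : Conn CoxeterMatrix.E₇ :=
  conn_of_parent ![2, 1, 1, 0, 1, 2, 3] ![2, 3, 3, 3, 3, 4, 5] (by decide) (by decide) (by decide)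
theorem conn_E8 : Conn CoxeterMatrix.E₈ :=
  conn_of_parent ![2, 1, 1, 0, 1, 2, 3, 4] ![2, 3, 3, 3, 3, 4, 5, 6] (by decide) (by decide) (by decide)

section

variable (K : Type u) [Field K] [Finite K] (p : ℕ) [Fact p.Prime] [CharP K p] (hq : 3 ≤ Nat.card K)

include hq

theorem good_E6 : H408.Core.Good p ↥(chevE6.group K) :=
  good_E type_E6 (fun i j => (ne6 i j).1) (fun i j => (ne6 i j).2) conn_E6 (by norm_num) (fun i => of_tab type_E6 tabE6 i i.2) (by simp)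
    [0, 2] [0, 2, 3, 4] w3E6 w5E6 pr_E6 K p hq

theorem good_E7 : H408.Core.Good p ↥(chevE7.group K) :=
  good_E type_E7 (fun i j => (ne7 i j).1) (fun i j => (ne7 i j).2) conn_E7 (by norm_num) (fun i => of_tab type_E7 tabE7 i i.2) (by simp)
    [0, 2] [0, 2, 3, 4] w3E7 w5E7 pr_E7 K p hq

theorem good_E8 : H408.Core.Good p ↥(chevE8.group K) :=
  good_E type_E8 (fun i j => (ne8 i j).1) (fun i j => (ne8 i j).2) conn_E8 (by norm_num) (fun i => of_tab type_E8 tabE8 i i.2) (by simp)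
    [0, 2] [0, 2, 3, 4] w3E8 w5E8 pr_E8 K p hq

end

end Cfsg.Agent.H225.PPow
end

-- part: H225/PPow/Long
section
/-!
# Subgroups of `p`-power index: tools for the doubly and triply laced groups (helper225)

* `lr_tab` : `LR` from the table of commutators;
* `Ctx.eq_top_conj` : a conjugate of a long root element in `H`;
* `Ctx.tr`, `Ctx.tr'` : `x n_i u ∈ H`, `y u ∈ H`;
* `comm_mem` : the commutator of two root elements with one term.
-/

set_option autoImplicit false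
set_option linter.unusedSectionVars false

namespace Cfsg.Agent.H225.PPow

open CoxeterSystem Subgroup Cfsg Cfsg.Lie Cfsg.Lie.ChevalleyDatum
open Cfsg.Agent.ChevalleyStructure Cfsg.Agent.ChevalleyStructure.Elts Cfsg.Agent.ChevalleyStructure.CoxeterGeom
  Cfsg.Agent.ChevalleyStructure.CoxeterGeomTypes Cfsg.Agent.ChevalleyStructure.NPerm
  Cfsg.Agent.ChevalleyStructure.RootVec Cfsg.Agent.ChevalleyStructure.RootVecTab
open Cfsg.Agent.Tits.Roots Cfsg.Agent.Tits.Core Cfsg.Agent.Tits.Exchange Cfsg.Agent.Nodes.Reps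
  Cfsg.Agent.Nodes.BNOf Cfsg.Agent.Nodes.Unique Cfsg.Agent.Nodes.ChevCls
  Cfsg.Agent.Nodes.RGDChev Cfsg.Agent.Nodes.Bruhat Cfsg.Agent.Nodes.Coroot Cfsg.Agent.KFacts.RgdTI
open Cfsg.Agent.KFacts.RgdField Cfsg.Agent.KFacts.RgdChevCoord Cfsg.Agent.BpExc.TorCent Cfsg.Agent.BpExc.TorChev
open scoped commutatorElement

universe u

section Abs

variable {I W Y : Type*} [Fintype I] [DecidableEq I] [Group W] [Group Y] {M : CoxeterMatrix I}
  {cs : CoxeterSystem M W} {A : I → I → ℤ} {h : IsCartan M A} {p : ℕ} {T : Subgroup Y} {n : I → Y}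
  {X : (I → ℤ) → Subgroup Y} [Finite W] [Finite Y] [Fact p.Prime] {R : RGD cs h p T n X} {H : Subgroup Y} {k : ℕ}

theorem Ctx.eq_top_conj (C : Ctx R H k) [IsSimpleGroup Y] {a : I → ℤ} (L : LR R a) {z g : Y} (hz : g * z * g⁻¹ ∈ H)
    (hza : z ∈ X a) (hz1 : z ≠ 1) : H = ⊤ := by
  have h1 := (C.conj g).eq_top_of_LR L (z := z) hz hza hz1
  rw [eq_top_iff]
  intro x _
  have h2 : g⁻¹ * x * g ∈ H.comap (MulAut.conj g).toMonoidHom := by rw [h1]; exact mem_top _
  have h3 : g * (g⁻¹ * x * g) * g⁻¹ ∈ H := h2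
  have e : g * (g⁻¹ * x * g) * g⁻¹ = x := by group
  rwa [e] at h3

/-- `x n_i u ∈ H` -/
theorem Ctx.tr (C : Ctx R H k) (hT : T ≤ H) (hTc : ∀ s ∈ T, ∀ t ∈ T, s * t = t * s) {i : I}
    (hs : Sep cs h T X (sr i)) {x : Y} (hx : x ∈ X (sr i)) : ∃ u ∈ X (sr i), x * n i * u ∈ H := by
  let Y₀ : Subgroup Y := T ⊓ centralizer (X (sr i) : Set Y)
  have hY₀ : ∀ t, t ∈ Y₀ ↔ t ∈ T ∧ ∀ a ∈ X (sr i), a * t = t * a := fun t => by
    rw [Subgroup.mem_inf, mem_centralizer_iff]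
    rfl
  have hg : ∀ y ∈ Y₀, y * (x * n i)⁻¹ = (x * n i)⁻¹ * y := by
    intro y hy
    obtain ⟨hyT, hyX⟩ := (hY₀ y).1 hy
    have h1 := comm_n R hTc hyT (fun a ha => (hyX a ha).symm)
    have h2 : y * (x * n i) = (x * n i) * y := by
      rw [← mul_assoc, ← hyX x hx, mul_assoc, h1, ← mul_assoc]
    calc y * (x * n i)⁻¹ = (x * n i)⁻¹ * ((x * n i) * y) * (x * n i)⁻¹ := by group
      _ = (x * n i)⁻¹ * (y * (x * n i)) * (x * n i)⁻¹ := by rw [h2]
      _ = _ := by group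
  obtain ⟨u', hu', z', hz', hcu', e'⟩ := C.exists_cent_mul (Y₀ := Y₀) inf_le_left (inf_le_left.trans hT)
    (g := (x * n i)⁻¹) (fun y hy => by
      have h1 : (x * n i)⁻¹⁻¹ * y * (x * n i)⁻¹ = y := by
        rw [mul_assoc, hg y hy]; group
      rw [h1]
      exact hT hy.1)
  have hux' : u' ∈ X (sr i) :=
    hs u' hu' fun t ht hta => hcu' t ((hY₀ t).2 ⟨ht, fun a ha => (hta a ha).symm⟩)
  refine ⟨u', hux', ?_⟩
  have h2 : z'⁻¹ = x * n i * u' := by
    have h3 : z' = u'⁻¹ * (x * n i)⁻¹ := by rw [e']; group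
    rw [h3]; group
  rw [← h2]
  exact inv_mem hz'

/-- `y u ∈ H` -/
theorem Ctx.tr' (C : Ctx R H k) (hT : T ≤ H) (hTc : ∀ s ∈ T, ∀ t ∈ T, s * t = t * s)
    (hU : ∀ u ∈ RGD.Sup X (RGD.Pos cs h), (∀ t ∈ T, u * t = t * u) → u = 1) {i : I}
    (hs : Sep cs h T X (sr i)) {y : Y} (hy : y ∈ X (-sr i)) : ∃ u ∈ X (sr i), y * u ∈ H := by
  have hnH : n i ∈ H := C.N_le hT hU (rp_simple cs R.nsys i)
  have hx : n i * y * (n i)⁻¹ ∈ X (sr i) := by
    have h1 := R.conj_mem (rp_simple cs R.nsys i) (isRoot_sr cs h i).neg hy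
    rwa [map_neg, rep_simple_sr, _root_.neg_neg] at h1
  obtain ⟨u, hu, h1⟩ := C.tr hT hTc hs hx
  refine ⟨u, hu, ?_⟩
  have h2 := mul_mem (inv_mem hnH) h1
  have e : (n i)⁻¹ * (n i * y * (n i)⁻¹ * n i * u) = y * u := by group
  rwa [e] at h2

end Abs

section Chev

variable {D : ChevalleyDatum} {l : ℕ} {M : CoxeterMatrix (Fin l)} (hp : IsType D l M) {K : Type u} [Field K]
  {W : Type*} [Group W] (cs : CoxeterSystem M W)

/-- the root elements in the group -/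
noncomputable def ex (r : ℕ) (t : K) : ↥(D.group K) := ⟨xG hp.inList r t, xG_mem_group hp.inList r t⟩

theorem coe_ex (r : ℕ) (t : K) : (ex hp r t : GL D.Idx K) = xG hp.inList r t := rfl

theorem mem_XX_vec {r : ℕ} (hr : r < D.nroots) {u : ↥(D.group K)} :
    u ∈ XX D l K (vec D l r) ↔ ∃ t, ex hp r t = u := by
  rw [Subgroup.mem_subgroupOf, XV_vec hp K hr, mem_rootSubgroup_iff hp.inList]
  constructor
  · rintro ⟨t, ht⟩
    exact ⟨t, Subtype.ext ht.symm⟩
  · rintro ⟨t, rfl⟩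
    exact ⟨t, rfl⟩

theorem ex_zero (r : ℕ) : ex hp r (0 : K) = 1 := Subtype.ext (xG_zero hp.inList r)

theorem ex_add (r : ℕ) (a b : K) : ex hp r (a + b) = ex hp r a * ex hp r b :=
  Subtype.ext (xG_add hp.inList r a b).symm

theorem ex_neg (r : ℕ) (a : K) : ex hp r (-a) = (ex hp r a)⁻¹ := by
  apply eq_inv_of_mul_eq_one_left
  rw [← ex_add hp r, neg_add_cancel, ex_zero]

theorem ex_inj {r : ℕ} (hr : r < D.nroots) {a b : K} (h : ex hp r a = ex hp r b) : a = b :=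
  xG_injective hp.inList hr (congrArg Subtype.val h)

theorem ex_ne_one {r : ℕ} (hr : r < D.nroots) {a : K} (ha : a ≠ 0) : ex hp r a ≠ 1 := by
  intro h
  apply ha
  apply ex_inj hp hr
  rw [h, ex_zero]

/-- the commutator formula -/
theorem ex_comm {r s : ℕ} (hr : r < D.nroots) (hs : s < D.nroots) (hrs : s ≠ r) (hneg : s ≠ D.neg r) (t u : K) :
    ex hp s u * ex hp r t = ex hp r t * ex hp s u *
      (((D.commTerms r s).map fun c => ex hp c.1 ((c.2.1 : K) * (-t) ^ c.2.2.1 * u ^ c.2.2.2))).prod := by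
  apply Subtype.ext
  have h1 := comm_xG hp (K := K) hr hs hrs hneg t u
  have h3 : ∀ L : List (ℕ × K), (((L.map fun c => ex hp c.1 c.2).prod : ↥(D.group K)) : GL D.Idx K) =
      wordG hp.inList L := by
    intro L
    induction L with
    | nil => rfl
    | cons c L ih =>
      rw [List.map_cons, List.prod_cons, Subgroup.coe_mul, ih, wordG_cons, coe_ex]
  have h4 : ((D.commTerms r s).map fun c => ex hp c.1 ((c.2.1 : K) * (-t) ^ c.2.2.1 * u ^ c.2.2.2)) =
      ((D.commWord K r s t u).map fun c => ex hp c.1 c.2) := by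
    unfold ChevalleyDatum.commWord
    rw [List.map_map]
    rfl
  rw [h4, Subgroup.coe_mul, Subgroup.coe_mul, Subgroup.coe_mul, h3, ← h1, coe_ex, coe_ex, commutatorElement_def,
    inv_inv, inv_inv]
  group

/-- the check for `LR` -/
def chkLR (D : ChevalleyDatum) (p : ℕ) (a : ℕ) (i : ℕ) : Bool :=
  (List.range D.nroots).all fun r => r == a || decide (cart D i r < 8) ||
    (D.commTerms a r).all fun c => c.2.1 % (p : ℤ) == 0

theorem lr_tab [Finite W] [Finite K] (p : ℕ) [hpf : Fact p.Prime] [hch : CharP K p] {i : Fin l} {d : ℕ} (hd : (p : ℤ) ∣ d)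
    (h : chkLR D d (D.simple i) i = true) : LR (rgd (K := K) hp cs p) (sr i) := by
  refine ⟨isRoot_sr cs _ i, fun x hx hc u hu v hv => ?_⟩
  obtain ⟨r, hr, rfl⟩ := (isRoot_iff hp cs _).1 hx
  have hsi := RootVec.simple_lt hp.checked (lt_rank hp i)
  rw [cpr_vec hp cs i hr, cartan_eq_cart hp.checked (lt_rank hp i) hr] at hc
  obtain ⟨a, rfl⟩ := (mem_XX_vec hp hr).1 hu
  rw [← vec_simple hp i] at hv
  obtain ⟨b, rfl⟩ := (mem_XX_vec hp hsi).1 hv
  by_cases h1 : r = D.simple i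
  · subst h1
    rw [← ex_add hp, ← ex_add hp, add_comm]
  have h2 : r ≠ D.neg (D.simple i) := by
    rintro rfl
    rw [← cartan_eq_cart hp.checked (lt_rank hp i) hr, ← cpr_vec hp cs i hr, vec_neg hp hsi, vec_simple hp,
      cpr_neg cs _ _ (isRoot_sr cs _ i), cpr_self cs _ (isRoot_sr cs _ i)] at hc
    norm_num at hc
  unfold chkLR at h
  have h3 := List.all_eq_true.1 h r (List.mem_range.2 hr)
  simp only [Bool.or_eq_true, beq_iff_eq, h1, false_or, decide_eq_true_eq, List.all_eq_true] at h3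
  rcases h3 with h3 | h3
  · omega
  rw [ex_comm hp hsi hr h1 h2]
  have h4 : ((D.commTerms (D.simple i) r).map fun c => ex hp c.1 ((c.2.1 : K) * (-b) ^ c.2.2.1 * a ^ c.2.2.2)).prod
      = 1 := by
    apply List.prod_eq_one
    intro z hz
    rw [List.mem_map] at hz
    obtain ⟨c, hc, rfl⟩ := hz
    have h5 : (p : ℤ) ∣ c.2.1 := hd.trans (Int.dvd_of_emod_eq_zero (h3 c hc))
    rw [(CharP.intCast_eq_zero_iff K p c.2.1).2 h5, zero_mul, zero_mul, ex_zero]
  rw [h4, mul_one]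

/-- the commutator of two root elements -/
theorem comm_mem {H : Subgroup ↥(D.group K)} {r s m : ℕ} {c : ℤ} (hr : r < D.nroots) (hs : s < D.nroots) (hrs : s ≠ r)
    (hneg : s ≠ D.neg r) (hc : D.commTerms r s = [(m, c, 1, 1)]) {t u : K} (ht : ex hp r t ∈ H) (hu : ex hp s u ∈ H) :
    ex hp m ((c : K) * -t * u) ∈ H := by
  have h1 := ex_comm hp hr hs hrs hneg t u
  rw [hc] at h1
  simp only [List.map_cons, List.map_nil, List.prod_cons, List.prod_nil, mul_one, pow_one] at h1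
  have h2 : ex hp m ((c : K) * -t * u) = (ex hp r t * ex hp s u)⁻¹ * (ex hp s u * ex hp r t) := by
    rw [h1]; group
  rw [h2]
  exact mul_mem (inv_mem (mul_mem ht hu)) (mul_mem hu ht)

end Chev

end Cfsg.Agent.H225.PPow
end

private theorem dce_7b6a7d3ab69f : _root_.True := by
  try have : _root_.True := by simp only [_root_.Cfsg.Agent.H225.PPow.reps.eq_2]
  try have : _root_.True := by simp only [_root_.Cfsg.Agent.H225.PPow.reps.eq_def]
  try have : _root_.True := by simp only [_root_.Cfsg.Agent.Nodes.Unique.Fut.eq_1]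
  try have : _root_.True := by simp only [_root_.Cfsg.Agent.H225.PPow.prL.eq_2]
  try have : _root_.True := by simp only [_root_.Cfsg.Agent.H225.PPow.prL.eq_def]
  try have : _root_.True := by simp only [_root_.Cfsg.Agent.H225.PPow.reps.eq_1]
  try have : _root_.True := by simp only [_root_.Cfsg.Agent.Nodes.StabComb.PW.eq_1]
  try have : _root_.True := by simp only [_root_.Cfsg.Agent.H225.PPow.prL.eq_1]
  try have : _root_.True := by simp only [_root_.Cfsg.Agent.H225.PPow.ex.congr_simp]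
  try have : _root_.True := by simp only [_root_.Cfsg.Agent.KFacts.RgdChevCoord.hc.congr_simp]
  try have : _root_.True := by simp only [_root_.Cfsg.Agent.H225.PPow.pr.eq_1]
  exact _root_.True.intro
end

-- part: H225/PPow/ChevF
section
prune_inst 0x200000040022000000000000000006000200009000000800000001400100200000000800100000020020020020300000010000000220000000000000000000000002000000000100240000000000000000000000000000000000000000000000000000000
set_option linter.all false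
open scoped Cfsg.Agent.FastGrp

-- part: H225/PPow/Five
section
/-!
# The field with five elements: rank one and rank two (helper225)

* `rank_one` : `H ∩ SL₂(5)` without root elements, transitive on the line: `y(1) x(2) ∈ H`;
* `rank_two` : for an `A₂` of such `SL₂(5)`s, `H` contains a conjugate of a root element.
-/

set_option autoImplicit false

namespace Cfsg.Agent.H225.PPow.Five

/-- `SL₂(5)` -/
abbrev SL := Matrix.SpecialLinearGroup (Fin 2) (ZMod 5)

/-- upper -/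
def up (t : ZMod 5) : SL := ⟨!![1, t; 0, 1], by simp⟩

/-- lower -/
def lo (t : ZMod 5) : SL := ⟨!![1, 0; t, 1], by simp⟩

/-- the Weyl element -/
def J : SL := ⟨!![0, 1; -1, 0], by simp⟩

/-- a torus element -/
def dg : SL := ⟨!![3, 0; 0, 2], by simp only [_root_.Matrix.det_fin_two_of, _root_.MulZeroClass.mul_zero, _root_.sub_zero]; decide⟩

theorem id0 : J * lo 1 * J⁻¹ = up (-1) := by decide +kernel
theorem id1 : (lo 1 * up 1) * (lo 1 * up 1) = lo 3 * up 3 * (lo 3)⁻¹ := by decide +kernel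
theorem id2 : (lo (-1) * up (-1)) * (lo (-1) * up (-1)) = lo (-3) * up (-3) * (lo (-3))⁻¹ := by decide +kernel
theorem id3 : lo 1 * up 4 * J = up 1 := by decide
theorem id4 : (lo 1 * up 3) * (lo 2 * up 4)⁻¹ * dg⁻¹ = lo 2 * up 2 := by decide +kernel
theorem id5 : (lo 2 * up 4)⁻¹ * (lo 2 * up 2) = up (-2) := by decide +kernel
theorem cases5 : ∀ c : ZMod 5, c = 0 ∨ c = 1 ∨ c = 2 ∨ c = 3 ∨ c = 4 := by decide
theorem units5 : ∀ u v : ZMod 5, u * v = 2 → (u = 1 ∧ v = 2) ∨ (u = 2 ∧ v = 1) ∨ (u = 4 ∧ v = 3) ∨ (u = 3 ∧ v = 4) := by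
  decide

theorem dg_eq : dg = up 3 * (lo (-2) * up 3) * (up (-1) * (lo 1 * up (-1))) := by decide
theorem J_eq : J = up 1 * (lo (-1) * up 1) := by decide
theorem three_ne : (3 : ZMod 5) ≠ 0 := by decide
theorem two_mul_three : (2 : ZMod 5) * 3 = 1 := by decide
theorem sq_neg_one : (-1 : ZMod 5) * -1 = 1 := by decide

variable {Y : Type*} [Group Y] {H : Subgroup Y}

/-- **Rank one.** -/
theorem rank_one (φ : SL →* Y) (h1 : ∃ c, φ (lo 1 * up c) ∈ H) (hJ : φ J ∈ H) (hd : φ dg ∈ H)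
    (ht : ∃ t ∈ H, ∀ s, t * φ (up s) * t⁻¹ = φ (up (3 * s)) ∧ t * φ (lo s) * t⁻¹ = φ (lo (2 * s)))
    (h0 : ∀ g c, c ≠ 0 → φ (g * up c * g⁻¹) ∉ H) : ∀ u v, u * v = 2 → φ (lo u * up v) ∈ H := by
  obtain ⟨t, htH, ht⟩ := ht
  have hct : ∀ a b, φ (lo a * up b) ∈ H → φ (lo (2 * a) * up (3 * b)) ∈ H := by
    intro a b hab
    have h2 := mul_mem (mul_mem htH hab) (inv_mem htH)
    have e : t * φ (lo a * up b) * t⁻¹ = (t * φ (lo a) * t⁻¹) * (t * φ (up b) * t⁻¹) := by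
      rw [map_mul]; group
    rw [e, (ht a).2, (ht b).1, ← map_mul] at h2
    exact h2
  have h0' : ∀ c, c ≠ 0 → φ (up c) ∉ H := by
    intro c hc hcH
    apply h0 1 c hc
    rwa [one_mul, inv_one, mul_one]
  obtain ⟨c, hc⟩ := h1
  have key : φ (lo 1 * up 2) ∈ H := by
    rcases cases5 c with rfl | rfl | rfl | rfl | rfl
    · exfalso
      have e : up 0 = 1 := by decide
      rw [e, mul_one] at hc
      apply h0' (-1) (by decide)
      rw [← id0, map_mul, map_mul, map_inv]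
      exact mul_mem (mul_mem hJ hc) (inv_mem hJ)
    · exfalso
      apply h0 (lo 3) 3 (by decide)
      rw [← id1, map_mul]
      exact mul_mem hc hc
    · exact hc
    · exfalso
      have h2 := hct _ _ hc
      have e1 : (2 : ZMod 5) * 1 = 2 := by decide
      have e2 : (3 : ZMod 5) * 3 = 4 := by decide
      rw [e1, e2] at h2
      have h3 : φ (lo 2 * up 2) ∈ H := by
        rw [← id4, map_mul, map_mul, map_inv, map_inv]
        exact mul_mem (mul_mem hc (inv_mem h2)) (inv_mem hd)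
      apply h0' (-2) (by decide)
      rw [← id5, map_mul, map_inv]
      exact mul_mem (inv_mem h2) h3
    · exfalso
      apply h0' 1 (by decide)
      rw [← id3, map_mul]
      exact mul_mem hc hJ
  have key2 := hct _ _ key
  have key4 := hct _ _ key2
  have key3 := hct _ _ key4
  intro u v huv
  rcases units5 u v huv with ⟨rfl, rfl⟩ | ⟨rfl, rfl⟩ | ⟨rfl, rfl⟩ | ⟨rfl, rfl⟩
  · exact key
  · have e1 : (2 : ZMod 5) * 1 = 2 := by decide
    have e2 : (3 : ZMod 5) * 2 = 1 := by decide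
    rw [e1, e2] at key2
    exact key2
  · have e1 : (2 : ZMod 5) * (2 * 1) = 4 := by decide
    have e2 : (3 : ZMod 5) * (3 * 2) = 3 := by decide
    rw [e1, e2] at key4
    exact key4
  · have e1 : (2 : ZMod 5) * (2 * (2 * 1)) = 3 := by decide
    have e2 : (3 : ZMod 5) * (3 * (3 * 2)) = 4 := by decide
    rw [e1, e2] at key3
    exact key3

/-- **Rank two.** -/
theorem rank_two (φa φb φc : SL →* Y) (hab : ∀ s t, φa (up s) * φb (lo t) = φb (lo t) * φa (up s))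
    (hba : ∀ s t, φb (up s) * φa (lo t) = φa (lo t) * φb (up s)) {ε : ZMod 5} (hε : ε = 1 ∨ ε = -1)
    (hup : ∀ s t, φb (up t) * φa (up s) = φa (up s) * φb (up t) * φc (up (ε * s * t)))
    (hlo : ∀ s t, φb (lo t) * φa (lo s) = φa (lo s) * φb (lo t) * φc (lo (-ε * s * t)))
    (hca : ∀ s t, φc (up s) * φa (up t) = φa (up t) * φc (up s))
    (hcb : ∀ s t, φc (up s) * φb (up t) = φb (up t) * φc (up s))
    (fa : φa (lo 1 * up 2) ∈ H) (fb : φb (lo 1 * up 2) ∈ H) :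
    ∃ g c, c ≠ 0 ∧ g * φc (up c) * g⁻¹ ∈ H := by
  rw [map_mul] at fa fb
  set A := φa (lo 1) * φb (lo 1) with hA
  set B := φa (up 2) * φb (up 2) with hB
  have e1 : (φa (lo 1) * φa (up 2)) * (φb (lo 1) * φb (up 2)) = A * B := by
    calc (φa (lo 1) * φa (up 2)) * (φb (lo 1) * φb (up 2)) =
        φa (lo 1) * (φa (up 2) * φb (lo 1)) * φb (up 2) := by group
      _ = φa (lo 1) * (φb (lo 1) * φa (up 2)) * φb (up 2) := by rw [hab]
      _ = A * B := by rw [hA, hB]; group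
  have e2 : (φb (lo 1) * φb (up 2)) * (φa (lo 1) * φa (up 2)) = A * φc (lo (-ε) * up (-ε)) * B := by
    have e3 : ε * 2 * 2 = -ε := by rcases hε with rfl | rfl <;> decide
    have e4 : -ε * 1 * 1 = -ε := by ring
    calc (φb (lo 1) * φb (up 2)) * (φa (lo 1) * φa (up 2)) =
        φb (lo 1) * (φb (up 2) * φa (lo 1)) * φa (up 2) := by group
      _ = φb (lo 1) * (φa (lo 1) * φb (up 2)) * φa (up 2) := by rw [hba]
      _ = (φb (lo 1) * φa (lo 1)) * (φb (up 2) * φa (up 2)) := by group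
      _ = (φa (lo 1) * φb (lo 1) * φc (lo (-ε))) * (φa (up 2) * φb (up 2) * φc (up (-ε))) := by
          rw [hlo, hup, e3, e4]
      _ = A * φc (lo (-ε)) * (φa (up 2) * (φb (up 2) * φc (up (-ε)))) := by rw [hA]; group
      _ = A * φc (lo (-ε)) * (φa (up 2) * (φc (up (-ε)) * φb (up 2))) := by rw [hcb]
      _ = A * φc (lo (-ε)) * ((φa (up 2) * φc (up (-ε))) * φb (up 2)) := by group
      _ = A * φc (lo (-ε)) * ((φc (up (-ε)) * φa (up 2)) * φb (up 2)) := by rw [hca]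
      _ = A * φc (lo (-ε) * up (-ε)) * B := by rw [hB, map_mul]; group
  have h3 : A * φc (lo (-ε) * up (-ε)) * A⁻¹ ∈ H := by
    have h4 := mul_mem (mul_mem fb fa) (inv_mem (mul_mem fa fb))
    rw [e1, e2] at h4
    have e : A * φc (lo (-ε) * up (-ε)) * B * (A * B)⁻¹ = A * φc (lo (-ε) * up (-ε)) * A⁻¹ := by group
    rwa [e] at h4
  have h5 : A * φc ((lo (-ε) * up (-ε)) * (lo (-ε) * up (-ε))) * A⁻¹ ∈ H := by
    have h6 := mul_mem h3 h3
    have e : A * φc (lo (-ε) * up (-ε)) * A⁻¹ * (A * φc (lo (-ε) * up (-ε)) * A⁻¹) =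
        A * φc ((lo (-ε) * up (-ε)) * (lo (-ε) * up (-ε))) * A⁻¹ := by
      rw [map_mul φc (lo (-ε) * up (-ε)) (lo (-ε) * up (-ε))]; group
    rwa [e] at h6
  rcases hε with rfl | rfl
  · refine ⟨A * φc (lo (-3)), -3, by decide, ?_⟩
    rw [id2] at h5
    have e : A * φc (lo (-3)) * φc (up (-3)) * (A * φc (lo (-3)))⁻¹ =
        A * φc (lo (-3) * up (-3) * (lo (-3))⁻¹) * A⁻¹ := by
      rw [map_mul, map_mul, map_inv]; group
    rw [e]; exact h5
  · refine ⟨A * φc (lo 3), 3, by decide, ?_⟩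
    rw [_root_.neg_neg, id1] at h5
    have e : A * φc (lo 3) * φc (up 3) * (A * φc (lo 3))⁻¹ =
        A * φc (lo 3 * up 3 * (lo 3)⁻¹) * A⁻¹ := by
      rw [map_mul, map_mul, map_inv]; group
    rw [e]; exact h5

end Cfsg.Agent.H225.PPow.Five
end

-- part: H225/PPow/ChevFive
section
/-!
# Subgroups of `p`-power index: the field with five elements (helper225)

* `ph` : the root `SL₂(K)` of an arbitrary root;
* `five_simple` : `y_i(u) x_i(v) ∈ H`, `u v = 2`;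
* `five_top` : an `A₂` with such elements : `H = ⊤`.
-/

set_option autoImplicit false
set_option linter.unusedSectionVars false

namespace Cfsg.Agent.H225.PPow

open CoxeterSystem Subgroup Cfsg Cfsg.Lie Cfsg.Lie.ChevalleyDatum
open Cfsg.Agent.ChevalleyStructure Cfsg.Agent.ChevalleyStructure.Elts Cfsg.Agent.ChevalleyStructure.CoxeterGeom
  Cfsg.Agent.ChevalleyStructure.CoxeterGeomTypes Cfsg.Agent.ChevalleyStructure.NPerm
  Cfsg.Agent.ChevalleyStructure.RootVec Cfsg.Agent.ChevalleyStructure.RootVecTab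
open Cfsg.Agent.Tits.Roots Cfsg.Agent.Tits.Core Cfsg.Agent.Tits.Exchange Cfsg.Agent.Nodes.Reps
  Cfsg.Agent.Nodes.BNOf Cfsg.Agent.Nodes.Unique Cfsg.Agent.Nodes.ChevCls
  Cfsg.Agent.Nodes.RGDChev Cfsg.Agent.Nodes.Bruhat Cfsg.Agent.Nodes.Coroot Cfsg.Agent.KFacts.RgdTI
open Cfsg.Agent.KFacts.RgdField Cfsg.Agent.KFacts.RgdChevCoord Cfsg.Agent.BpExc.TorCent Cfsg.Agent.BpExc.TorChev

universe u

variable {D : ChevalleyDatum} {l : ℕ} {M : CoxeterMatrix (Fin l)} (hp : IsType D l M) (K : Type u) [Field K]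
  {W : Type*} [Group W] (cs : CoxeterSystem M W)

/-- the root `SL₂` -/
noncomputable def ph {r : ℕ} (hr : r < D.nroots) : Matrix.SpecialLinearGroup (Fin 2) K →* ↥(D.group K) :=
  (SL2Hom.phi (SL2All.good_of_mem D hp.inList r hr) K).codRestrict
    (D.group K) (fun g => by
      have h1 := SL2Hom.range_phi (F := K) (SL2All.good_of_mem D hp.inList r hr)
      have h2 : D.rootSubgroup K r ⊔ D.rootSubgroup K (D.neg r) ≤ D.group K := by
        refine sup_le ?_ ?_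
        · intro x hx
          rw [mem_rootSubgroup_iff hp.inList] at hx
          obtain ⟨t, rfl⟩ := hx
          exact xG_mem_group hp.inList _ _
        · intro x hx
          rw [mem_rootSubgroup_iff hp.inList] at hx
          obtain ⟨t, rfl⟩ := hx
          exact xG_mem_group hp.inList _ _
      rw [← h1] at h2
      exact h2 ⟨g, rfl⟩)

theorem ph_up {r : ℕ} (hr : r < D.nroots) (t : K) : ph hp K hr (SL2Hom.up t) = ex hp r t :=
  Subtype.ext (Units.ext (SL2Hom.phi_upper _ _ t rfl))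

theorem ph_lo {r : ℕ} (hr : r < D.nroots) (t : K) : ph hp K hr (SL2Hom.lo t) = ex hp (D.neg r) t :=
  Subtype.ext (Units.ext (SL2Hom.phi_lower _ _ t rfl))

section Five

variable [CharP K 5]

/-- the embedding of the prime field -/
abbrev κ (K : Type u) [Field K] [CharP K 5] : ZMod 5 →+* K := ZMod.castHom (dvd_refl 5) K

/-- the root `SL₂(5)` -/
noncomputable def fi {r : ℕ} (hr : r < D.nroots) : Five.SL →* ↥(D.group K) :=
  (ph hp K hr).comp (Matrix.SpecialLinearGroup.map (κ K))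

theorem fi_up {r : ℕ} (hr : r < D.nroots) (t : ZMod 5) : fi hp K hr (Five.up t) = ex hp r (κ K t) := by
  rw [← ph_up hp K hr]
  change ph hp K hr (Matrix.SpecialLinearGroup.map (κ K) (Five.up t)) = _
  congr 1
  apply Subtype.ext
  change ((κ K).mapMatrix !![1, t; 0, 1] : Matrix (Fin 2) (Fin 2) K) = !![1, κ K t; 0, 1]
  ext i j; (revert i j; simp only [_root_.Fin.forall_fin_succ, _root_.RingHom.mapMatrix_apply, _root_.Matrix.map_apply, _root_.Matrix.of_apply, _root_.Matrix.cons_val', _root_.Matrix.cons_val_fin_one, _root_.ZMod.castHom_apply, Fin.isValue, _root_.Matrix.cons_val_zero, _root_.Matrix.cons_val_succ, _root_.forall_const, _root_.dvd_refl, _root_.ZMod.cast_one, _root_.and_self, _root_.ZMod.cast_zero, _root_.implies_true])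

theorem fi_lo {r : ℕ} (hr : r < D.nroots) (t : ZMod 5) : fi hp K hr (Five.lo t) = ex hp (D.neg r) (κ K t) := by
  rw [← ph_lo hp K hr]
  change ph hp K hr (Matrix.SpecialLinearGroup.map (κ K) (Five.lo t)) = _
  congr 1
  apply Subtype.ext
  change ((κ K).mapMatrix !![1, 0; t, 1] : Matrix (Fin 2) (Fin 2) K) = !![1, 0; κ K t, 1]
  ext i j; (revert i j; simp only [_root_.Fin.forall_fin_succ, _root_.RingHom.mapMatrix_apply, _root_.Matrix.map_apply, _root_.Matrix.of_apply, _root_.Matrix.cons_val', _root_.Matrix.cons_val_fin_one, _root_.ZMod.castHom_apply, Fin.isValue, _root_.Matrix.cons_val_zero, _root_.Matrix.cons_val_succ, _root_.forall_const, _root_.dvd_refl, _root_.ZMod.cast_one, _root_.ZMod.cast_zero, _root_.and_self, _root_.implies_true])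

theorem κ_surj (hK : Nat.card K = 5) : Function.Surjective (κ K) := by
  have : Finite K := Nat.finite_of_card_ne_zero (by omega)
  have : Fact (Nat.Prime 5) := ⟨by norm_num⟩
  have h1 : Function.Injective (κ K) := (κ K).injective
  have : Fintype K := Fintype.ofFinite K
  refine ((Fintype.bijective_iff_injective_and_card _).2 ⟨h1, ?_⟩).surjective
  rw [ZMod.card, ← Nat.card_eq_fintype_card, hK]

end Five

section Act

variable [Finite K] (p : ℕ) [hpf : Fact p.Prime] [hch : CharP K p]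

theorem xc_eq {r : ℕ} (hr : r < D.nroots) (a : K) : xc hp (vec D l r) a = ex hp r a :=
  Subtype.ext (coe_xc hp hr a)

theorem act_ex {r : ℕ} (hr : r < D.nroots) {t : ↥(D.group K)} (ht : t ∈ TT D K) (a : K) :
    t * ex hp r a * t⁻¹ = ex hp r (ch hp (vec D l r) t * a) := by
  rw [← xc_eq hp K hr, ← xc_eq hp K hr]
  exact (act hp hr ht).2 a

include hpf hch cs in
theorem ch_neg {r : ℕ} (hr : r < D.nroots) {t : ↥(D.group K)} (ht : t ∈ TT D K) :
    ch hp (vec D l (D.neg r)) t * ch hp (vec D l r) t = 1 := by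
  obtain ⟨φ, h0, h1, h2⟩ := chAdd hp cs (K := K) p t ht
  rw [vec_neg hp hr, h2 _ (isRoot_vec hp cs hr).neg, h2 _ (isRoot_vec hp cs hr), ← h1, neg_add_cancel, h0]

end Act

section Main

variable {K} [Finite W] [Finite K] [Fact (Nat.Prime 5)] [CharP K 5] {H : Subgroup ↥(D.group K)} {k : ℕ}

theorem fi_J (i : Fin l) : fi hp K (_root_.Cfsg.Agent.ChevalleyStructure.NPerm.simple_lt hp.inList (lt_rank hp i)) Five.J = nc hp K i := by
  apply Subtype.ext
  change _ = nG hp.inList (D.simple i) 1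
  rw [nG_def, Five.J_eq, map_mul, map_mul, fi_up, fi_lo, Subgroup.coe_mul, Subgroup.coe_mul, coe_ex, coe_ex]
  simp only [_root_.ZMod.castHom_apply, _root_.dvd_refl, _root_.ZMod.cast_one, _root_.ZMod.cast_neg, _root_.inv_one]

theorem fi_dg (i : Fin l) : fi hp K (_root_.Cfsg.Agent.ChevalleyStructure.NPerm.simple_lt hp.inList (lt_rank hp i)) Five.dg = hc hp i (3 : K) := by
  have h5 : (5 : K) = 0 := by exact_mod_cast CharP.cast_eq_zero K 5
  have h3 : (3 : K) ≠ 0 := by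
    intro h3
    have h4 : ((3 : ℕ) : K) = 0 := by exact_mod_cast h3
    rw [CharP.cast_eq_zero_iff K 5] at h4
    omega
  have h2 : -(3 : K)⁻¹ = -2 := by
    have : (3 : K)⁻¹ = 2 := by
      rw [inv_eq_iff_eq_inv, eq_comm, inv_eq_iff_eq_inv]
      apply eq_inv_of_mul_eq_one_left
      have e : (2 : K) * 3 = 5 + 1 := by norm_num
      rw [e, h5, zero_add]
    rw [this]
  apply Subtype.ext
  change _ = hG hp.inList (D.simple i) 3
  rw [hG_def, nG_def, nG_def, Five.dg_eq]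
  simp only [map_mul, fi_up, fi_lo, Subgroup.coe_mul, coe_ex]
  rw [h2]
  have e1 : (κ K 3 : K) = 3 := map_ofNat (κ K) 3
  have e2 : (κ K (-2) : K) = -2 := by rw [map_neg]; exact congrArg _ (map_ofNat (κ K) 2)
  have e3 : (κ K (-1) : K) = -1 := by rw [map_neg, map_one]
  have e4 : (κ K 1 : K) = -(-1)⁻¹ := by simp
  rw [e1, e2, e3, e4]

/-- **Rank one.** -/
theorem five_simple (hK : Nat.card K = 5) (C : Ctx (rgd (K := K) hp cs 5) H k) [IsSimpleGroup ↥(D.group K)]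
    (hne : H ≠ ⊤) (hT : TT D K ≤ H)
    (hU : ∀ u ∈ RGD.Sup (XX D l K) (RGD.Pos cs hp.isCartan), (∀ t ∈ TT D K, u * t = t * u) → u = 1) {i : Fin l}
    (hs : Sep cs hp.isCartan (TT D K) (XX D l K) (sr i)) (L : LR (rgd (K := K) hp cs 5) (sr i))
    (hm : ∃ m : Fin l → ℤ, pr D l m (D.simple i) = 1) :
    ∀ u v, u * v = 2 → fi hp K (_root_.Cfsg.Agent.ChevalleyStructure.NPerm.simple_lt hp.inList (lt_rank hp i)) (Five.lo u * Five.up v) ∈ H := by
  have hsi := _root_.Cfsg.Agent.ChevalleyStructure.NPerm.simple_lt hp.inList (lt_rank hp i)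
  have hnH : nc hp K i ∈ H := C.N_le hT hU (rp_simple cs (rgd (K := K) hp cs 5).nsys i)
  refine Five.rank_one (fi hp K hsi) ?_ ?_ ?_ ?_ ?_
  · obtain ⟨u, hu, h1⟩ := C.tr' hT (TT_comm hp) hU hs (y := ex hp (D.neg (D.simple i)) 1) (by
      rw [← vec_simple hp i, ← vec_neg hp hsi]
      exact (mem_XX_vec hp (_root_.Cfsg.Agent.ChevalleyStructure.NPerm.neg_lt hp.inList hsi)).2 ⟨1, rfl⟩)
    rw [← vec_simple hp i] at hu
    obtain ⟨c, rfl⟩ := (mem_XX_vec hp hsi).1 hu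
    obtain ⟨c', rfl⟩ := κ_surj K hK c
    refine ⟨c', ?_⟩
    rw [map_mul, fi_up, fi_lo, map_one]
    exact h1
  · rw [fi_J]; exact hnH
  · rw [fi_dg]
    refine hT (hc_mem hp i ?_)
    intro h3
    have h4 : ((3 : ℕ) : K) = 0 := by exact_mod_cast h3
    rw [CharP.cast_eq_zero_iff K 5] at h4
    omega
  · obtain ⟨m, hm⟩ := hm
    have h3 : (κ K 3 : K) ≠ 0 := (map_ne_zero _).2 Five.three_ne
    obtain ⟨t, ht, et⟩ := exists_tor hp (K := K) 5 m h3
    have e1 := et _ hsi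
    rw [hm, zpow_one] at e1
    have e2 := ch_neg hp K cs 5 hsi ht
    rw [e1] at e2
    have e3 : ch hp (vec D l (D.neg (D.simple i))) t = κ K 2 := by
      have h6 : κ K 2 * κ K 3 = 1 := by
        rw [← map_mul, Five.two_mul_three, map_one]
      exact mul_right_cancel₀ h3 (e2.trans h6.symm)
    refine ⟨t, hT ht, fun s => ⟨?_, ?_⟩⟩
    · rw [fi_up, fi_up, act_ex hp K hsi ht, e1, map_mul]
    · rw [fi_lo, fi_lo, act_ex hp K (_root_.Cfsg.Agent.ChevalleyStructure.NPerm.neg_lt hp.inList hsi) ht, e3, map_mul]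
  · intro g c hc hgc
    apply hne
    refine C.eq_top_conj L (z := ex hp (D.simple i) (κ K c)) (g := fi hp K hsi g) ?_ ?_ ?_
    · rw [map_mul, map_mul, map_inv, fi_up] at hgc
      exact hgc
    · rw [← vec_simple hp i]
      exact (mem_XX_vec hp hsi).2 ⟨_, rfl⟩
    · exact ex_ne_one hp hsi ((map_ne_zero _).2 hc)

/-- transport by `n_j` -/
theorem five_conj {j : Fin l} {a : ℕ} (ha : a < D.nroots) (hn : nc hp K j ∈ H)
    (hf : ∀ u v, u * v = 2 → fi hp K ha (Five.lo u * Five.up v) ∈ H) :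
    ∀ u v, u * v = 2 → fi hp K (reflectRoot_lt hp.inList (lt_rank hp j) ha) (Five.lo u * Five.up v) ∈ H := by
  obtain ⟨η, hη, h1⟩ := MonomialNormal.xG_conj (F := K) hp.inList (SharpSign.sharp hp.inList) (lt_rank hp j) ha
  have h2 : ∀ t, nc hp K j * ex hp a t * (nc hp K j)⁻¹ = ex hp (D.reflectRoot j a) (η * t) := fun t =>
    Subtype.ext (h1 t).1
  have h3 : ∀ t, nc hp K j * ex hp (D.neg a) t * (nc hp K j)⁻¹ = ex hp (D.neg (D.reflectRoot j a)) (η * t) :=
    fun t => Subtype.ext (h1 t).2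
  intro u v huv
  obtain ⟨e, he, hee⟩ : ∃ e : ZMod 5, κ K e = η ∧ e * e = 1 := by
    rcases hη with rfl | rfl
    · exact ⟨1, map_one _, mul_one 1⟩
    · exact ⟨-1, by rw [map_neg, map_one], Five.sq_neg_one⟩
  have h4 := hf (e * u) (e * v) (by
    rw [← huv]
    calc e * u * (e * v) = (e * e) * (u * v) := by ring
      _ = u * v := by rw [hee, one_mul])
  have h5 := mul_mem (mul_mem hn h4) (inv_mem hn)
  rw [map_mul, fi_up, fi_lo] at h5
  have e5 : nc hp K j * (ex hp (D.neg a) (κ K (e * u)) * ex hp a (κ K (e * v))) * (nc hp K j)⁻¹ =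
      (nc hp K j * ex hp (D.neg a) (κ K (e * u)) * (nc hp K j)⁻¹) *
        (nc hp K j * ex hp a (κ K (e * v)) * (nc hp K j)⁻¹) := by group
  rw [e5, h2, h3, ← he, ← map_mul, ← map_mul, ← mul_assoc, ← mul_assoc, hee, one_mul, one_mul] at h5
  rw [map_mul, fi_up, fi_lo]
  exact h5

/-- the check for the `A₂` -/
def chkA2 (D : ChevalleyDatum) (a b c : ℕ) (e : ℤ) : Bool :=
  (decide (a < D.nroots) && decide (b < D.nroots) && decide (c < D.nroots)) &&
  (D.commTerms a b == [(c, e, 1, 1)] && D.commTerms (D.neg a) (D.neg b) == [(D.neg c, -e, 1, 1)]) &&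
  (D.commTerms a (D.neg b) == [] && D.commTerms b (D.neg a) == [] && D.commTerms a c == [] &&
    D.commTerms b c == []) &&
  (b != a && b != D.neg a && D.neg b != a && D.neg b != D.neg a && c != a && c != D.neg a && c != b &&
    c != D.neg b && a != D.neg b && D.neg a != b) && (e == 1 || e == -1)

/-- **Rank two.** -/
theorem five_top {R : RGD cs hp.isCartan 5 (TT D K) (nc hp K) (XX D l K)} (C : Ctx R H k)
    [IsSimpleGroup ↥(D.group K)] {a b c : ℕ} {e : ℤ} (hchk : chkA2 D a b c e = true) (ha : a < D.nroots)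
    (hb : b < D.nroots) (L : LR R (vec D l c)) (fa : fi hp K ha (Five.lo 1 * Five.up 2) ∈ H)
    (fb : fi hp K hb (Five.lo 1 * Five.up 2) ∈ H) : H = ⊤ := by
  unfold chkA2 at hchk
  simp only [Bool.and_eq_true, decide_eq_true_eq, beq_iff_eq, bne_iff_ne, ne_eq, Bool.or_eq_true] at hchk
  obtain ⟨⟨⟨⟨⟨⟨-, -⟩, hc⟩, h1, h2⟩, ⟨⟨h3, h4⟩, h5⟩, h6⟩, ⟨⟨⟨⟨⟨⟨⟨⟨⟨n1, n2⟩, n3⟩, n4⟩, n5⟩, n6⟩, n7⟩, n8⟩, n9⟩, n10⟩⟩, he⟩ := hchk
  have hna := _root_.Cfsg.Agent.ChevalleyStructure.NPerm.neg_lt hp.inList ha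
  have hnb := _root_.Cfsg.Agent.ChevalleyStructure.NPerm.neg_lt hp.inList hb
  have comm : ∀ {r s : ℕ} (_ : r < D.nroots) (_ : s < D.nroots) (_ : s ≠ r) (_ : s ≠ D.neg r)
      (_ : D.commTerms r s = []) (t u : K), ex hp s u * ex hp r t = ex hp r t * ex hp s u := by
    intro r s hr hs hrs hneg h0 t u
    have h7 := ex_comm hp hr hs hrs hneg t u
    rwa [h0, List.map_nil, List.prod_nil, mul_one] at h7
  obtain ⟨g, x, hx, hg⟩ := Five.rank_two (H := H) (fi hp K ha) (fi hp K hb) (fi hp K hc) (ε := ((-e : ℤ) : ZMod 5))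
    (fun s t => by
      rw [fi_up, fi_lo]
      exact (comm ha hnb n3 n4 h3 _ _).symm)
    (fun s t => by
      rw [fi_up, fi_lo]
      exact (comm hb hna n10 (fun h => n4 h.symm) h4 _ _).symm)
    (by rcases he with rfl | rfl
        · right; simp
        · left; simp)
    (fun s t => by
      rw [fi_up, fi_up, fi_up]
      have h7 := ex_comm hp ha hb n1 n2 (κ K s) (κ K t)
      rw [h1] at h7
      simp only [List.map_cons, List.map_nil, List.prod_cons, List.prod_nil, mul_one, pow_one] at h7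
      rw [h7]
      congr 2
      rw [map_mul, map_mul, map_intCast]
      push_cast
      ring)
    (fun s t => by
      rw [fi_lo, fi_lo, fi_lo]
      have h7 := ex_comm hp hna hnb n4 (by
        rw [RootVec.neg_neg hp.checked ha]; exact n3) (κ K s) (κ K t)
      rw [h2] at h7
      simp only [List.map_cons, List.map_nil, List.prod_cons, List.prod_nil, mul_one, pow_one] at h7
      rw [h7]
      congr 2
      rw [map_mul, map_mul, map_neg, map_intCast]
      push_cast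
      ring)
    (fun s t => by
      rw [fi_up, fi_up]
      exact comm ha hc n5 n6 h5 _ _)
    (fun s t => by
      rw [fi_up, fi_up]
      exact comm hb hc n7 n8 h6 _ _)
    fa fb
  rw [fi_up] at hg
  exact C.eq_top_conj L hg ((mem_XX_vec hp hc).2 ⟨_, rfl⟩) (ex_ne_one hp hc ((map_ne_zero _).2 hx))

end Main

end Cfsg.Agent.H225.PPow
end

-- part: H225/PPow/ChevF
section
/-!
# Subgroups of `p`-power index of `F₄(q)` (`q ≥ 3`) and `G₂(q)` (`q ≥ 4`) in the natural characteristic (helper225)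

`good_F4`, `good_G2`.
-/

set_option autoImplicit false
set_option linter.unusedSectionVars false

namespace Cfsg.Agent.H225.PPow

open CoxeterSystem Subgroup Cfsg Cfsg.Lie Cfsg.Lie.ChevalleyDatum
open Cfsg.Agent.ChevalleyStructure Cfsg.Agent.ChevalleyStructure.Elts Cfsg.Agent.ChevalleyStructure.CoxeterGeom
  Cfsg.Agent.ChevalleyStructure.CoxeterGeomTypes Cfsg.Agent.ChevalleyStructure.NPerm
  Cfsg.Agent.ChevalleyStructure.RootVec Cfsg.Agent.ChevalleyStructure.RootVecTab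
open Cfsg.Agent.Tits.Roots Cfsg.Agent.Tits.Core Cfsg.Agent.Tits.Exchange Cfsg.Agent.Nodes.Reps
  Cfsg.Agent.Nodes.BNOf Cfsg.Agent.Nodes.Unique Cfsg.Agent.Nodes.ChevCls Cfsg.Agent.Nodes.StabComb
  Cfsg.Agent.Nodes.LeviDec
  Cfsg.Agent.Nodes.RGDChev Cfsg.Agent.Nodes.Bruhat Cfsg.Agent.Nodes.Coroot Cfsg.Agent.KFacts.RgdTI
open Cfsg.Agent.KFacts.RgdField Cfsg.Agent.KFacts.RgdChevCoord Cfsg.Agent.BpExc.TorCent Cfsg.Agent.BpExc.TorChev

universe u

variable {D : ChevalleyDatum} {l : ℕ} {M : CoxeterMatrix (Fin l)} (hp : IsType D l M) {K : Type u} [Field K]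
  {W : Type*} [Group W] (cs : CoxeterSystem M W)

section Word

variable {H : Subgroup ↥(D.group K)} [Finite W] [Finite K] {p : ℕ}
  {R : RGD cs hp.isCartan p (TT D K) (nc hp K) (XX D l K)}

/-- transporting a root element of `H` along a word -/
theorem root_word (hN : ∀ w g, Rp cs R.nsys w g → g ∈ H) {w : W} {i : Fin l} {c : ↥(D.group K)} (hc : c ∈ H)
    (hcx : c ∈ XX D l K (rep cs hp.isCartan w (sr i))) (hc1 : c ≠ 1) (ω : List (Fin l)) :
    ∃ t : K, t ≠ 0 ∧ ex hp (wact D ω (D.simple i)) t ∈ H := by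
  have hsi := _root_.Cfsg.Agent.ChevalleyStructure.NPerm.simple_lt hp.inList (lt_rank hp i)
  obtain ⟨g, hg⟩ := exists_rp cs R.nsys (cs.wordProd ω * w⁻¹)
  have h1 := R.conj_mem hg ((isRoot_sr cs hp.isCartan i).act w) hcx
  rw [rep_mul_apply, rep_inv_apply, ← vec_simple hp i, rep_word hp cs ω hsi,
    mem_XX_vec hp (wact_lt hp ω hsi)] at h1
  obtain ⟨t, ht⟩ := h1
  refine ⟨t, ?_, ?_⟩
  · rintro rfl
    rw [ex_zero] at ht
    apply hc1
    have e : c = g⁻¹ * (g * c * g⁻¹) * g := by group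
    rw [e, ← ht]; group
  · rw [ht]
    exact mul_mem (mul_mem (hN _ _ hg) hc) (inv_mem (hN _ _ hg))

/-- `LR` along a word -/
theorem lr_word {i : Fin l} (L : LR R (sr i)) (ω : List (Fin l)) : LR R (vec D l (wact D ω (D.simple i))) := by
  have hsi := _root_.Cfsg.Agent.ChevalleyStructure.NPerm.simple_lt hp.inList (lt_rank hp i)
  rw [← rep_word hp cs ω hsi, vec_simple hp]
  exact L.act _

/-- a short root element in `H` -/
theorem finish_short [Fact p.Prime] {k : ℕ} (C : Ctx R H k) [IsSimpleGroup ↥(D.group K)]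
    (hN : ∀ w g, Rp cs R.nsys w g → g ∈ H) {w : W} {i : Fin l} {c : ↥(D.group K)} (hc : c ∈ H)
    (hcx : c ∈ XX D l K (rep cs hp.isCartan w (sr i))) (hc1 : c ≠ 1) (ω₁ ω₂ : List (Fin l)) {m : ℕ} {e : ℤ}
    (hct : D.commTerms (wact D ω₁ (D.simple i)) (wact D ω₂ (D.simple i)) = [(m, e, 1, 1)])
    (h1 : wact D ω₂ (D.simple i) ≠ wact D ω₁ (D.simple i) ∧ wact D ω₂ (D.simple i) ≠ D.neg (wact D ω₁ (D.simple i)))
    (hm : m < D.nroots) (he : (e : K) ≠ 0) (L : LR R (vec D l m)) : H = ⊤ := by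
  have hsi := _root_.Cfsg.Agent.ChevalleyStructure.NPerm.simple_lt hp.inList (lt_rank hp i)
  obtain ⟨t, ht, htH⟩ := root_word (R := R) hp cs hN hc hcx hc1 ω₁
  obtain ⟨u, hu, huH⟩ := root_word (R := R) hp cs hN hc hcx hc1 ω₂
  have h2 := comm_mem hp (wact_lt hp ω₁ hsi) (wact_lt hp ω₂ hsi) h1.1 h1.2 hct htH huH
  exact C.eq_top_of_LR L h2 ((mem_XX_vec hp hm).2 ⟨_, rfl⟩)
    (ex_ne_one hp hm (mul_ne_zero (mul_ne_zero he (neg_ne_zero.2 ht)) hu))

end Word

theorem type_F4 : IsType chevF4 4 CoxeterMatrix.F₄ := by simp [IsType, typeList]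
theorem type_G2 : IsType chevG2 2 CoxeterMatrix.G₂ := by simp [IsType, typeList]

theorem orb_F4 : ∀ i : Fin 4, i = 0 ∨ i = 1 ∨ i = 2 ∨ i = 3 := by decide
theorem orb_G2 : ∀ i : Fin 2, i = 0 ∨ i = 1 := by decide

/-! ### Tables for `F₄` -/

theorem lrF4_2 : chkLR chevF4 0 (chevF4.simple 2) 2 = true := by decide +kernel
theorem lrF4_3 : chkLR chevF4 0 (chevF4.simple 3) 3 = true := by decide +kernel
theorem chkF4 : chkA2 chevF4 25 24 26 (-1) = true := by decide +kernel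
theorem tF4_a : wact chevF4 ([] : List (Fin 4)) (chevF4.simple (0 : Fin 4)) = 33 ∧
    wact chevF4 ([2, 3, 1, 2, 1, 0] : List (Fin 4)) (chevF4.simple (0 : Fin 4)) = 8 ∧
    wact chevF4 ([1, 0] : List (Fin 4)) (chevF4.simple (1 : Fin 4)) = 33 ∧
    wact chevF4 ([2, 3, 1, 2, 0, 1] : List (Fin 4)) (chevF4.simple (1 : Fin 4)) = 8 ∧
    wact chevF4 ([2, 3, 1, 2] : List (Fin 4)) (chevF4.simple (2 : Fin 4)) = 15 ∧
    wact chevF4 ([3] : List (Fin 4)) (chevF4.simple (2 : Fin 4)) = 26 ∧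
    wact chevF4 ([0] : List (Fin 4)) (chevF4.simple (1 : Fin 4)) = 34 := by decide +kernel
theorem tF4_b : chevF4.commTerms 33 8 = [(15, 2, 1, 1)] ∧ 8 ≠ chevF4.neg 33 ∧ 15 < chevF4.nroots ∧
    chevF4.simple 2 = 25 ∧ chevF4.simple 3 = 24 ∧ chevF4.simple 0 = 33 ∧ chevF4.simple 1 = 27 := by
  decide +kernel
theorem w3F4 : (∀ i : Fin 4, wact chevF4 (reps ([0, 1] : List (Fin 4)) 3) (chevF4.simple i) = chevF4.simple i) ∧
    ∃ j : Fin 4, wact chevF4 ([0, 1] : List (Fin 4)) (chevF4.simple j) ≠ chevF4.simple j := by decide +kernel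
theorem prF4_2 : ∃ m : Fin 4 → ℤ, pr chevF4 4 m (chevF4.simple (2 : Fin 4)) = 1 :=
  exists_pr type_F4 [0, 0, 0, -1] rfl (by decide +kernel)
theorem prF4_3 : ∃ m : Fin 4 → ℤ, pr chevF4 4 m (chevF4.simple (3 : Fin 4)) = 1 :=
  exists_pr type_F4 [0, 0, -1, 0] rfl (by decide +kernel)
theorem futF4 : ∀ r < 48, (∀ i : Fin 4, 0 ≤ rt chevF4 r i) →
    (∀ i : Fin 4, 0 ≤ rt chevF4 (wact chevF4 ([0, 1, 0] : List (Fin 4)) r) i) ∨ r = 27 ∨ r = 33 ∨ r = 34 := by
  decide +kernel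
theorem futF4' : ∀ r ∈ [27, 33, 34], ¬ (∀ i : Fin 4, 0 ≤ rt chevF4 (wact chevF4 ([0, 1, 0] : List (Fin 4)) r) i) := by
  decide +kernel
theorem supF4 : ∀ r < 48, (∀ i : Fin 4, 2 ≤ (i : ℕ) → rt chevF4 r i = 0) → (∀ i : Fin 4, 0 ≤ rt chevF4 r i) →
    r ∈ [27, 33, 34] := by decide +kernel
theorem nroots_F4 : chevF4.nroots = 48 := by decide +kernel

/-! ### Tables for `G₂` -/

theorem lrG2_1 : chkLR chevG2 0 (chevG2.simple 1) 1 = true := by decide +kernel
theorem lrG2_0 : chkLR chevG2 3 (chevG2.simple 0) 0 = true := by decide +kernel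
theorem chkG2 : chkA2 chevG2 6 10 11 1 = true := by decide +kernel
theorem tG2_a : wact chevG2 ([] : List (Fin 2)) (chevG2.simple (0 : Fin 2)) = 7 ∧
    wact chevG2 ([0, 1] : List (Fin 2)) (chevG2.simple (0 : Fin 2)) = 9 ∧
    wact chevG2 ([0] : List (Fin 2)) (chevG2.simple (1 : Fin 2)) = 10 ∧
    wact chevG2 ([1, 0] : List (Fin 2)) (chevG2.simple (1 : Fin 2)) = 11 ∧
    chevG2.reflectRoot 0 6 = 10 := by decide +kernel
theorem tG2_b : chevG2.commTerms 7 9 = [(10, 3, 1, 1)] ∧ 9 ≠ chevG2.neg 7 ∧ 10 < chevG2.nroots ∧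
    chevG2.simple 1 = 6 ∧ chevG2.simple 0 = 7 := by
  decide +kernel
theorem w3G2 : (∀ i : Fin 2, wact chevG2 (reps ([0, 1, 0, 1] : List (Fin 2)) 3) (chevG2.simple i) = chevG2.simple i) ∧
    ∃ j : Fin 2, wact chevG2 ([0, 1, 0, 1] : List (Fin 2)) (chevG2.simple j) ≠ chevG2.simple j := by decide +kernel
theorem prG2_1 : ∃ m : Fin 2 → ℤ, pr chevG2 2 m (chevG2.simple (1 : Fin 2)) = 1 :=
  exists_pr type_G2 [1, 2] rfl (by decide +kernel)

/-! ### The main theorems -/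

section Main

variable (K : Type u) [Field K] [Finite K] (p : ℕ) [Fact p.Prime] [CharP K p]

include p in
/-- `q` is a power of `p` -/
theorem card_pow : ∃ m : ℕ, 1 ≤ m ∧ Nat.card K = p ^ m := by
  have : Fintype K := Fintype.ofFinite K
  obtain ⟨m, hm, e⟩ := FiniteField.card K p
  exact ⟨m, m.pos, by rw [Nat.card_eq_fintype_card, e]⟩

theorem QE_of {E : List ℤ} {b : ℕ} (hb : b < Nat.card K - 1) (hE : ∀ c ∈ E, c ≠ 0 ∧ c.natAbs ≤ b) : QE K E := by
  intro c hc hd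
  obtain ⟨h1, h2⟩ := hE c hc
  have h3 := Int.natAbs_dvd_natAbs.2 hd
  have h4 := Nat.le_of_dvd (Int.natAbs_pos.2 h1) h3
  rw [Int.natAbs_natCast] at h4
  omega

/-- the size of the root groups for the panel lemma -/
theorem six_le (h2 : p ≠ 2) (h3 : p ≠ 3) (h5 : Nat.card K ≠ 5) : 6 ≤ Nat.card K := by
  obtain ⟨m, hm, e⟩ := card_pow K p
  have hp := (Fact.out : p.Prime)
  have h2' := hp.two_le
  by_cases h5' : p = 5
  · subst h5'
    have : m ≠ 1 := by rintro rfl; exact h5 (by rw [e, pow_one])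
    rw [e]
    calc 6 ≤ 5 ^ 2 := by norm_num
      _ ≤ 5 ^ m := Nat.pow_le_pow_right (by norm_num) (by omega)
  · have h7 : 6 ≤ p := by
      by_contra hcon
      have : p = 4 := by omega
      rw [this] at hp
      exact absurd hp (by decide)
    rw [e]
    calc 6 ≤ p := h7
      _ = p ^ 1 := (pow_one p).symm
      _ ≤ p ^ m := Nat.pow_le_pow_right (by omega) hm

set_option maxHeartbeats 2000000 in
/-- **`F₄(q)`, `q ≥ 3`.** -/
theorem good_F4 (hq : 3 ≤ Nat.card K) : H408.Core.Good p ↥(chevF4.group K) := by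
  let cs := CoxeterMatrix.F₄.toCoxeterSystem
  have hp := type_F4
  have hW : Finite CoxeterMatrix.F₄.Group := finite_W hp cs
  have R := rgd (K := K) hp cs p
  have hsim : IsSimpleGroup ↥(chevF4.group K) := (Cfsg.Agent.S1054.result (F := K) chevF4 (by simp)).1
  have L2 : LR (rgd (K := K) hp cs p) (sr (2 : Fin 4)) := lr_tab hp cs p (d := 0) (dvd_zero _) lrF4_2
  have L3 : LR (rgd (K := K) hp cs p) (sr (3 : Fin 4)) := lr_tab hp cs p (d := 0) (dvd_zero _) lrF4_3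
  refine good_of (R := rgd (K := K) hp cs p) (GG_top hp cs) fun H k C hTH => ?_
  have h1E : QE K [1, -1] := QE_of K (b := 1) (by omega) (by decide)
  have hUT := cent_T hp cs p (K := K) h1E (i := (0 : Fin 4)) (j := (1 : Fin 4)) (by decide)
    (of_tab hp tabF4S 0 (by decide)) (of_tab hp tabF4S 1 (by decide))
  have hN : ∀ w g, Rp cs R.nsys w g → g ∈ H := fun w g hg => C.N_le hTH hUT hg
  have long : ∀ w (i : Fin 4), i = 2 ∨ i = 3 → ∀ c ∈ H, c ∈ XX chevF4 4 K (rep cs hp.isCartan w (sr i)) → c ≠ 1 →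
      H = ⊤ := by
    rintro w i (rfl | rfl) c hc hcx hc1
    · exact C.eq_top_of_LR (L2.act w) hc hcx hc1
    · exact C.eq_top_of_LR (L3.act w) hc hcx hc1
  have short : p ≠ 2 → ∀ w (i : Fin 4), i = 0 ∨ i = 1 → ∀ c ∈ H,
      c ∈ XX chevF4 4 K (rep cs hp.isCartan w (sr i)) → c ≠ 1 → H = ⊤ := by
    intro hp2 w i hi c hc hcx hc1
    have h2 : ((2 : ℤ) : K) ≠ 0 := by
      intro h
      have h' : ((2 : ℕ) : K) = 0 := by exact_mod_cast h
      rw [CharP.cast_eq_zero_iff K p, Nat.prime_dvd_prime_iff_eq Fact.out Nat.prime_two] at h'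
      exact hp2 h'
    have L15 : LR (rgd (K := K) hp cs p) (vec chevF4 4 15) := by
      have := lr_word hp cs L2 [2, 3, 1, 2]
      rwa [tF4_a.2.2.2.2.1] at this
    rcases hi with rfl | rfl
    · refine finish_short hp cs C hN hc hcx hc1 [] [2, 3, 1, 2, 1, 0] (m := 15) (e := 2) ?_ ?_ tF4_b.2.2.1 h2 L15
      · rw [tF4_a.1, tF4_a.2.1]; exact tF4_b.1
      · rw [tF4_a.1, tF4_a.2.1]; exact ⟨by decide, tF4_b.2.1⟩
    · refine finish_short hp cs C hN hc hcx hc1 [1, 0] [2, 3, 1, 2, 0, 1] (m := 15) (e := 2) ?_ ?_ tF4_b.2.2.1 h2 L15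
      · rw [tF4_a.2.2.1, tF4_a.2.2.2.1]; exact tF4_b.1
      · rw [tF4_a.2.2.1, tF4_a.2.2.2.1]; exact ⟨by decide, tF4_b.2.1⟩
  have all : p ≠ 2 → ∀ w (i : Fin 4), ∀ c ∈ H, c ∈ XX chevF4 4 K (rep cs hp.isCartan w (sr i)) → c ≠ 1 → H = ⊤ := by
    intro hp2 w i c hc hcx hc1
    rcases orb_F4 i with h | h | h | h
    · exact short hp2 w i (Or.inl h) c hc hcx hc1
    · exact short hp2 w i (Or.inr h) c hc hcx hc1
    · exact long w i (Or.inl h) c hc hcx hc1
    · exact long w i (Or.inr h) c hc hcx hc1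
  by_cases hq3 : Nat.card K = 3
  · -- `q = 3`
    have hp3 : p = 3 := by
      obtain ⟨m, hm, e⟩ := card_pow K p
      rw [hq3] at e
      have h1 : p ∣ 3 := by rw [e]; exact dvd_pow_self _ (by omega)
      exact (Nat.prime_dvd_prime_iff_eq Fact.out Nat.prime_three).1 h1
    obtain ⟨g, hg⟩ := exists_rp cs R.nsys (cs.wordProd [0, 1])
    have hJ : cs.wordProd [0, 1] ∈ WJ cs ({0, 1} : Set (Fin 4)) := by
      rw [wordProd_cons, wordProd_cons, wordProd_nil, mul_one]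
      exact mul_mem (subset_closure ⟨0, by simp, rfl⟩) (subset_closure ⟨1, by simp, rfl⟩)
    have h3 : cs.wordProd [0, 1] ^ p = 1 ∧ cs.wordProd [0, 1] ≠ 1 := by
      rw [hp3, ← wordProd_reps cs]
      constructor
      · refine eq_one_of_nonneg cs hp.isCartan _ fun i => ?_
        change 0 ≤ rep cs hp.isCartan (cs.wordProd (reps [0, 1] 3)) (sr i)
        rw [← vec_simple hp i, rep_word hp cs _ (RootVec.simple_lt hp.checked (lt_rank hp i)), w3F4.1,
          vec_simple hp i]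
        exact sr_nonneg i
      · intro h3
        obtain ⟨j, hj⟩ := w3F4.2
        have h4 := rep_word hp cs [0, 1] (RootVec.simple_lt hp.checked (lt_rank hp j))
        rw [h3, map_one, Module.End.one_apply] at h4
        exact hj (vec_inj hp (RootVec.simple_lt hp.checked (lt_rank hp j))
          (wact_lt hp [0, 1] (RootVec.simple_lt hp.checked (lt_rank hp j))) h4).symm
    have h4 := C.lev_N (Q := VJ cs hp.isCartan (XX chevF4 4 K) {0, 1}) (VJ_le_U _)
      (RGD.U_le_B.trans (B_le_PJ.trans (PJ_le_normalizer_VJ R _))) hg (hN _ _ hg)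
      (LJ_le_normalizer_VJ R _ (rp_mem_LJ R hJ hg)) h3.1 h3.2
    have hinv : (cs.wordProd [0, 1, 0])⁻¹ = cs.wordProd [0, 1, 0] := by
      rw [← wordProd_reverse]; rfl
    have h48 := nroots_F4
    have hmem : ∀ x, IsRoot cs hp.isCartan x → 0 ≤ x → x ∉ Fut cs hp.isCartan (cs.wordProd [0, 1, 0]) →
        ∃ w : CoxeterMatrix.F₄.Group, ∃ i : Fin 4, (i = 0 ∨ i = 1) ∧ x = rep cs hp.isCartan w (sr i) := by
      intro x hx h0 hf
      obtain ⟨r, hr, rfl⟩ := (isRoot_iff hp cs x).1 hx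
      rcases futF4 r (by omega) (fun i => h0 i) with h5 | rfl | rfl | rfl
      · exfalso
        apply hf
        refine ⟨hx, h0, ?_⟩
        rw [hinv, rep_word hp cs _ hr]
        exact fun i => h5 i
      · refine ⟨1, 1, Or.inr rfl, ?_⟩
        rw [map_one, Module.End.one_apply, ← vec_simple hp]
        exact congrArg _ tF4_b.2.2.2.2.2.2.symm
      · refine ⟨1, 0, Or.inl rfl, ?_⟩
        rw [map_one, Module.End.one_apply, ← vec_simple hp]
        exact congrArg _ tF4_b.2.2.2.2.2.1.symm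
      · refine ⟨cs.wordProd [0], 1, Or.inr rfl, ?_⟩
        rw [← vec_simple hp, rep_word hp cs _ (_root_.Cfsg.Agent.ChevalleyStructure.NPerm.simple_lt hp.inList (lt_rank hp 1))]
        exact congrArg _ tF4_a.2.2.2.2.2.2.symm
    obtain ⟨x, hx, h0, hf, c, hc, hcx, hc1⟩ := C.exists_root hTH (cs.wordProd [0, 1, 0]) (by
      intro h5
      apply h4
      refine h5.trans (RGD.Sup_le fun x hx => ?_)
      suffices hxN : x ∈ NotJ cs hp.isCartan ({0, 1} : Set (Fin 4)) from RGD.le_Sup (X := XX chevF4 4 K) hxN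
      obtain ⟨hx, h0, h6⟩ := hx
      by_contra hnot
      have hz : ∀ k : Fin 4, k ∉ ({0, 1} : Set (Fin 4)) → x k = 0 := by
        intro k hk
        by_contra hne
        exact hnot ⟨hx, h0, k, hk, lt_of_le_of_ne (h0 k) (Ne.symm hne)⟩
      obtain ⟨r, hr, rfl⟩ := (isRoot_iff hp cs x).1 hx
      have h7 := supF4 r (by omega) (fun i hi => hz i (by
        simp only [Set.mem_insert_iff, Set.mem_singleton_iff, not_or]
        constructor <;> (rintro rfl; revert hi; decide))) (fun i => h0 i)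
      apply futF4' r h7
      rw [hinv, rep_word hp cs _ hr] at h6
      exact fun i => h6 i) (fun x hx h0 hf => by
        obtain ⟨w, i, hi, rfl⟩ := hmem x hx h0 hf
        rcases hi with rfl | rfl
        · exact sep hp cs p h1E (of_tab hp tabF4S 0 (by decide)) h0
        · exact sep hp cs p h1E (of_tab hp tabF4S 1 (by decide)) h0)
    obtain ⟨w, i, hi, rfl⟩ := hmem x hx h0 hf
    exact short (by omega) w i hi c hc hcx hc1
  have hE : QE K [1, -1, 2, -2] := QE_of K (b := 2) (by omega) (by decide)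
  have hsep : ∀ i : Fin 4, SepT chevF4 4 [1, -1, 2, -2] i := fun i => of_tab hp tabF4 i i.2
  by_cases hp2 : p = 2
  · obtain ⟨c, hc, hcx, hc1⟩ := C.two hp2 hTH hUT (i := (2 : Fin 4)) (sep_simple hp cs p hE (hsep _))
    exact long 1 2 (Or.inl rfl) c hc (by rwa [map_one, Module.End.one_apply]) hc1
  by_cases hp3 : p = 3
  · obtain ⟨w, hw, hw1⟩ : ∃ w : CoxeterMatrix.F₄.Group, w ^ p = 1 ∧ w ≠ 1 := by
      subst hp3
      obtain ⟨j, hj⟩ := w3F4.2
      exact exists_order hp cs 3 [0, 1] w3F4.1 hj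
    have h1 := C.inf_ne_bot hTH hUT hw hw1
    obtain ⟨x, hx, hx0, -, c, hc, hcx, hc1⟩ := C.exists_root hTH (w0 cs) (by
      rw [fut_w0]
      intro h2
      apply h1
      refine h2.trans (RGD.Sup_le fun z hz => ?_)
      simp at hz) (fun x hx hx0 _ => by
        obtain ⟨w, i, rfl⟩ := hx
        exact sep hp cs p hE (hsep i) hx0)
    obtain ⟨w, i, rfl⟩ := hx
    exact all hp2 w i c hc hcx hc1
  by_cases hq5 : Nat.card K = 5
  · -- `q = 5`
    by_contra hne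
    have hp5 : p = 5 := by
      obtain ⟨m, hm, e⟩ := card_pow K p
      rw [hq5] at e
      have h1 : p ∣ 5 := by rw [e]; exact dvd_pow_self _ (by omega)
      exact (Nat.prime_dvd_prime_iff_eq Fact.out Nat.prime_five).1 h1
    subst hp5
    apply hne
    have f2 := five_simple hp cs hq5 C hne hTH hUT (i := (2 : Fin 4)) (sep_simple hp cs 5 hE (hsep _)) L2 prF4_2
    have f3 := five_simple hp cs hq5 C hne hTH hUT (i := (3 : Fin 4)) (sep_simple hp cs 5 hE (hsep _)) L3 prF4_3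
    have hs2 : chevF4.simple ((2 : Fin 4) : ℕ) < chevF4.nroots := _root_.Cfsg.Agent.ChevalleyStructure.NPerm.simple_lt hp.inList (lt_rank hp 2)
    have hs3 : chevF4.simple ((3 : Fin 4) : ℕ) < chevF4.nroots := _root_.Cfsg.Agent.ChevalleyStructure.NPerm.simple_lt hp.inList (lt_rank hp 3)
    have L26 : LR (rgd (K := K) hp cs 5) (vec chevF4 4 26) := by
      have := lr_word hp cs L2 [3]
      rwa [tF4_a.2.2.2.2.2.1] at this
    refine five_top hp cs C (a := chevF4.simple ((2 : Fin 4) : ℕ)) (b := chevF4.simple ((3 : Fin 4) : ℕ)) (c := 26)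
      (e := -1) ?_ hs2 hs3 L26 (f2 1 2 (one_mul 2)) (f3 1 2 (one_mul 2))
    have e2 : chevF4.simple ((2 : Fin 4) : ℕ) = 25 := tF4_b.2.2.2.1
    have e3 : chevF4.simple ((3 : Fin 4) : ℕ) = 24 := tF4_b.2.2.2.2.1
    rw [e2, e3]
    exact chkF4
  · obtain ⟨c, hc, hcx, hc1⟩ := C.panel hTH (TT_comm hp) hUT (i := (2 : Fin 4)) (sep_simple hp cs p hE (hsep _))
      (trans hp p prF4_2) (by rw [card_X hp p]; exact six_le K p hp2 hp3 hq5)
    exact long 1 2 (Or.inl rfl) c hc (by rwa [map_one, Module.End.one_apply]) hc1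

/-- nontriviality of `T` on the root groups -/
theorem cent_T' (p' : ℕ) [Fact p'.Prime] [CharP K p'] {D : ChevalleyDatum} {l : ℕ} {M : CoxeterMatrix (Fin l)} (hp : IsType D l M) {W : Type*} [Group W]
    [Finite W] (cs : CoxeterSystem M W) {E : List ℤ} (hE : QE K E)
    (ht : ∀ r < D.nroots, ∃ m : Fin l → ℤ, pr D l m r ∈ E) :
    ∀ u ∈ RGD.Sup (XX D l K) (RGD.Pos cs hp.isCartan), (∀ t ∈ TT D K, u * t = t * u) → u = 1 := by
  have R := rgd (K := K) hp cs p'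
  refine cent_T_of R fun y hy hy0 u hu hcu => ?_
  obtain ⟨r, hr, rfl⟩ := (isRoot_iff hp cs y).1 hy
  obtain ⟨a, ha, hac⟩ := exists_zpow_ne_one (K := K)
  obtain ⟨m, hm⟩ := ht r hr
  obtain ⟨t, htT, et⟩ := exists_tor hp (K := K) p' m ha
  refine eq_one_of_comm hp cs p' hy htT ?_ hu (hcu t htT)
  rw [et r hr]
  exact fun h4 => hE _ hm (hac _ h4)

theorem ntG2 : ∀ r < 12, pr chevG2 2 ![1, 0] r ∈ [1, -1, 2, -2] ∨ pr chevG2 2 ![0, 1] r ∈ [1, -1, 2, -2] := by
  decide +kernel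

theorem nroots_G2 : chevG2.nroots = 12 := by decide +kernel

set_option maxHeartbeats 2000000 in
/-- **`G₂(q)`, `q ≥ 4`.** -/
theorem good_G2 (hq : 4 ≤ Nat.card K) : H408.Core.Good p ↥(chevG2.group K) := by
  let cs := CoxeterMatrix.G₂.toCoxeterSystem
  have hp := type_G2
  have hW : Finite CoxeterMatrix.G₂.Group := finite_W hp cs
  have R := rgd (K := K) hp cs p
  obtain ⟨a, ha, hac⟩ := exists_zpow_ne_one (K := K)
  have hsim : IsSimpleGroup ↥(chevG2.group K) := (Cfsg.Agent.S1055.result (F := K) ⟨a, ha, by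
    rintro rfl
    have h1 := hac 1 (one_zpow _)
    have h2 := Int.le_of_dvd one_pos h1
    omega⟩).1
  have L1 : LR (rgd (K := K) hp cs p) (sr (1 : Fin 2)) := lr_tab hp cs p (d := 0) (dvd_zero _) lrG2_1
  refine good_of (R := rgd (K := K) hp cs p) (GG_top hp cs) fun H k C hTH => ?_
  have h2E : QE K [1, -1, 2, -2] := QE_of K (b := 2) (by omega) (by decide)
  have hUT := cent_T' K p hp cs h2E (by
    intro r hr
    have h12 := nroots_G2
    rcases ntG2 r (by omega) with h | h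
    · exact ⟨_, h⟩
    · exact ⟨_, h⟩)
  have hN : ∀ w g, Rp cs R.nsys w g → g ∈ H := fun w g hg => C.N_le hTH hUT hg
  have long : ∀ w, ∀ c ∈ H, c ∈ XX chevG2 2 K (rep cs hp.isCartan w (sr (1 : Fin 2))) → c ≠ 1 → H = ⊤ :=
    fun w c hc hcx hc1 => C.eq_top_of_LR (L1.act w) hc hcx hc1
  have short : ∀ w, ∀ c ∈ H, c ∈ XX chevG2 2 K (rep cs hp.isCartan w (sr (0 : Fin 2))) → c ≠ 1 → H = ⊤ := by
    intro w c hc hcx hc1
    by_cases hp3 : p = 3
    · have L0 : LR (rgd (K := K) hp cs p) (sr (0 : Fin 2)) := lr_tab hp cs p (d := 3) (by rw [hp3]) lrG2_0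
      exact C.eq_top_of_LR (L0.act w) hc hcx hc1
    · have h3 : ((3 : ℤ) : K) ≠ 0 := by
        intro h
        have h' : ((3 : ℕ) : K) = 0 := by exact_mod_cast h
        rw [CharP.cast_eq_zero_iff K p, Nat.prime_dvd_prime_iff_eq Fact.out Nat.prime_three] at h'
        exact hp3 h'
      have L10 : LR (rgd (K := K) hp cs p) (vec chevG2 2 10) := by
        have := lr_word hp cs L1 [0]
        rwa [tG2_a.2.2.1] at this
      refine finish_short hp cs C hN hc hcx hc1 [] [0, 1] (m := 10) (e := 3) ?_ ?_ tG2_b.2.2.1 h3 L10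
      · rw [tG2_a.1, tG2_a.2.1]; exact tG2_b.1
      · rw [tG2_a.1, tG2_a.2.1]; exact ⟨by decide, tG2_b.2.1⟩
  have all : ∀ w (i : Fin 2), ∀ c ∈ H, c ∈ XX chevG2 2 K (rep cs hp.isCartan w (sr i)) → c ≠ 1 → H = ⊤ := by
    intro w i c hc hcx hc1
    rcases orb_G2 i with rfl | rfl
    · exact short w c hc hcx hc1
    · exact long w c hc hcx hc1
  by_cases hp2 : p = 2
  · obtain ⟨c, hc, hcx, hc1⟩ := C.two hp2 hTH hUT (i := (0 : Fin 2))
      (sep_simple hp cs p h2E (of_tab hp tabG2S 0 (by decide)))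
    exact short 1 c hc (by rwa [map_one, Module.End.one_apply]) hc1
  have hq5' : 5 ≤ Nat.card K := by
    rcases Nat.lt_or_ge 4 (Nat.card K) with h | h
    · exact h
    · exfalso
      apply hp2
      obtain ⟨m, hm, e⟩ := card_pow K p
      have h4 : Nat.card K = 2 ^ 2 := by omega
      rw [h4] at e
      have h1 : p ∣ 2 ^ 2 := by rw [e]; exact dvd_pow_self _ (by omega)
      exact (Nat.prime_dvd_prime_iff_eq Fact.out Nat.prime_two).1 ((Fact.out : p.Prime).dvd_of_dvd_pow h1)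
  have hE : QE K [1, -1, 2, -2, 3, -3] := QE_of K (b := 3) (by omega) (by decide)
  have hsep : ∀ i : Fin 2, SepT chevG2 2 [1, -1, 2, -2, 3, -3] i := fun i => of_tab hp tabG2 i i.2
  by_cases hp3 : p = 3
  · obtain ⟨w, hw, hw1⟩ : ∃ w : CoxeterMatrix.G₂.Group, w ^ p = 1 ∧ w ≠ 1 := by
      subst hp3
      obtain ⟨j, hj⟩ := w3G2.2
      exact exists_order hp cs 3 [0, 1, 0, 1] w3G2.1 hj
    have h1 := C.inf_ne_bot hTH hUT hw hw1
    obtain ⟨x, hx, hx0, -, c, hc, hcx, hc1⟩ := C.exists_root hTH (w0 cs) (by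
      rw [fut_w0]
      intro h2
      apply h1
      refine h2.trans (RGD.Sup_le fun z hz => ?_)
      simp at hz) (fun x hx hx0 _ => by
        obtain ⟨w, i, rfl⟩ := hx
        exact sep hp cs p hE (hsep i) hx0)
    obtain ⟨w, i, rfl⟩ := hx
    exact all w i c hc hcx hc1
  by_cases hq5 : Nat.card K = 5
  · -- `q = 5`
    by_contra hne
    have hp5 : p = 5 := by
      obtain ⟨m, hm, e⟩ := card_pow K p
      rw [hq5] at e
      have h1 : p ∣ 5 := by rw [e]; exact dvd_pow_self _ (by omega)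
      exact (Nat.prime_dvd_prime_iff_eq Fact.out Nat.prime_five).1 h1
    subst hp5
    apply hne
    have f1 := five_simple hp cs hq5 C hne hTH hUT (i := (1 : Fin 2)) (sep_simple hp cs 5 hE (hsep _)) L1 prG2_1
    have hs1 : chevG2.simple ((1 : Fin 2) : ℕ) < chevG2.nroots := _root_.Cfsg.Agent.ChevalleyStructure.NPerm.simple_lt hp.inList (lt_rank hp 1)
    have f2 := five_conj hp (j := (0 : Fin 2)) hs1 (hN _ _ (rp_simple cs R.nsys 0)) f1
    have L11 : LR (rgd (K := K) hp cs 5) (vec chevG2 2 11) := by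
      have := lr_word hp cs L1 [1, 0]
      rwa [tG2_a.2.2.2.1] at this
    refine five_top hp cs C (a := chevG2.simple ((1 : Fin 2) : ℕ))
      (b := chevG2.reflectRoot ((0 : Fin 2) : ℕ) (chevG2.simple ((1 : Fin 2) : ℕ))) (c := 11)
      (e := 1) ?_ hs1 _ L11 (f1 1 2 (one_mul 2)) (f2 1 2 (one_mul 2))
    have e1 : chevG2.simple ((1 : Fin 2) : ℕ) = 6 := tG2_b.2.2.2.1
    have e2 : chevG2.reflectRoot ((0 : Fin 2) : ℕ) 6 = 10 := tG2_a.2.2.2.2
    rw [e1, e2]
    exact chkG2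
  · obtain ⟨c, hc, hcx, hc1⟩ := C.panel hTH (TT_comm hp) hUT (i := (1 : Fin 2)) (sep_simple hp cs p hE (hsep _))
      (trans hp p prG2_1) (by rw [card_X hp p]; exact six_le K p hp2 hp3 hq5)
    exact long 1 c hc (by rwa [map_one, Module.End.one_apply]) hc1

end Main

end Cfsg.Agent.H225.PPow
end

private theorem dce_b6dbb3680b5d : _root_.True := by
  try have : _root_.True := by simp only [_root_.Cfsg.Agent.H225.PPow.κ.congr_simp]
  try have : _root_.True := by simp only [_root_.Cfsg.Agent.H225.PPow.fi.congr_simp]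
  exact _root_.True.intro
end
end
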