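import Cfsg.Agent.H408.EngStr_m3
import Cfsg.Agent.Solvable.Glauberman
import Cfsg.Agent.H795.TorCnt
import Mathlib
import Cfsg.Agent.KFacts.RgdTI
import Cfsg.Agent.FastGrp
import Cfsg.Agent.Prune
set_option linter.all false

section
prune_inst 0x7f00000000000000000000000000000000000000000000000000000000000000000000000000000000000000000000000000000000000000000000000000000000000000000000000000000000000000003fffffffffffffffffffffffffffbeffbdffffffff

-- part: H225/PPow/Rgd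
section
set_option linter.all false
open scoped Cfsg.Agent.FastGrp

/-!
# Subgroups of `p`-power index in a group with a root group datum in characteristic `p` (helper225)

`R : RGD cs h p T n X`, `GG = ⊤`, `H.index = p ^ k`:

* `exists_T_le` : `T` is conjugate into `H`;
* `exists_cent_mul` : if `Y₀ ≤ T ≤ H` and `g⁻¹ Y₀ g ≤ H` then `g ∈ C_U(Y₀) H`;
* `N_le` : `N ≤ H` if `C_U(T) = 1`;
* `eq_top_of_central` : a nontrivial element of `H` centralised by a conjugate of `U` : `H = ⊤` (`Y` simple);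
* `exists_iso` : the isolation lemma;
* `lev` : parabolic subgroups.
-/

set_option autoImplicit false
set_option linter.unusedSectionVars false

namespace Cfsg.Agent.H225.PPow

open Subgroup

/-! ### Coprime action -/

/-- `C_{V/N}(Y) = C_V(Y) N / N` for coprime action. -/
theorem exists_cent {G : Type*} [Group G] [Finite G] {Y V N : Subgroup G} (hYV : Y ≤ normalizer (V : Set G))
    (hYN : Y ≤ normalizer (N : Set G)) (hNV : N ≤ V) (hcop : (Nat.card Y).Coprime (Nat.card V))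
    (hsol : Group.IsSolvable Y ∨ Group.IsSolvable N) {v : G} (hv : v ∈ V)
    (h : ∀ y ∈ Y, v * y * v⁻¹ * y⁻¹ ∈ N) : ∃ m ∈ N, ∀ y ∈ Y, (m⁻¹ * v) * y = y * (m⁻¹ * v) := by
  have hcopN : (Nat.card Y).Coprime (Nat.card N) :=
    Nat.Coprime.coprime_dvd_right (Subgroup.card_dvd_of_le hNV) hcop
  let B : Subgroup G := Y.map (MulAut.conj v).toMonoidHom
  have hB : B ≤ Y ⊔ N := by
    rintro _ ⟨y, hy, rfl⟩
    change v * y * v⁻¹ ∈ Y ⊔ N
    have e : v * y * v⁻¹ = (v * y * v⁻¹ * y⁻¹) * y := by group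
    rw [e]
    exact mul_mem (Subgroup.mem_sup_right (h y hy)) (Subgroup.mem_sup_left hy)
  have hcard : Nat.card B = Nat.card Y :=
    Nat.card_congr (Y.equivMapOfInjective _ (MulAut.conj v).injective).symm.toEquiv
  obtain ⟨m, hm, e⟩ := Solvable.Glauberman.exists_conj_of_le_sup Y N hYN hcopN hsol B hB hcard
  refine ⟨m, hm, ?_⟩
  have hc : m⁻¹ * v ∈ V := mul_mem (inv_mem (hNV hm)) hv
  have h1 : ∀ a ∈ Y, (m⁻¹ * v) * a * (m⁻¹ * v)⁻¹ ∈ Y := by
    intro a ha
    have h2 : v * a * v⁻¹ ∈ B := ⟨a, ha, rfl⟩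
    rw [← e] at h2
    obtain ⟨b, hb, hb'⟩ := (Subgroup.mem_smul_pointwise_iff_exists _ _ _).1 h2
    have h3 : m * b * m⁻¹ = v * a * v⁻¹ := hb'
    have h4 : (m⁻¹ * v) * a * (m⁻¹ * v)⁻¹ = m⁻¹ * (v * a * v⁻¹) * m := by group
    rw [h4, ← h3]
    have h5 : m⁻¹ * (m * b * m⁻¹) * m = b := by group
    rw [h5]
    exact hb
  have h2 := Solvable.Glauberman.mem_centralizer_of_normalizes Y V hYV
    (Subgroup.disjoint_of_coprime_natCard hcop) hc h1
  intro y hy
  exact (Subgroup.mem_centralizer_iff.1 h2 y hy).symm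

/-! ### Root group data -/

section Rgd

open CoxeterSystem Cfsg.Agent.ChevalleyStructure.CoxeterGeom Cfsg.Agent.Tits.Roots Cfsg.Agent.Tits.Core
  Cfsg.Agent.Tits.RootComb Cfsg.Agent.Nodes.Comb Cfsg.Agent.Nodes.Reps Cfsg.Agent.Nodes.BNOf
  Cfsg.Agent.Nodes.Unique Cfsg.Agent.Nodes.StabComb Cfsg.Agent.Nodes.Bruhat Cfsg.Agent.Nodes.OppDec
  Cfsg.Agent.Nodes.LeviDec Cfsg.Agent.Nodes.NormalForm

variable {I W Y : Type*} [Fintype I] [DecidableEq I] [Group W] [Group Y] {M : CoxeterMatrix I}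
  {cs : CoxeterSystem M W} {A : I → I → ℤ} {h : IsCartan M A} {p : ℕ} {T : Subgroup Y} {n : I → Y}
  {X : (I → ℤ) → Subgroup Y} (R : RGD cs h p T n X)

include R

section Fin

variable [Finite W] [Finite Y] [Fact p.Prime]

theorem not_dvd_index_U (hG : GG cs h T X = ⊤) : ¬ p ∣ (RGD.Sup X (RGD.Pos cs h)).index := by
  obtain ⟨P, hP⟩ := BpExc.TorRgd.exists_sylow_eq R hG
  rw [← hP]
  exact P.not_dvd_index

theorem coprime_T_U : (Nat.card T).Coprime (Nat.card (RGD.Sup X (RGD.Pos cs h))) := by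
  obtain ⟨k, hk⟩ := R.isPGroup_Upos.exists_card_eq
  rw [hk]
  exact R.tcop.pow_right k

theorem solvable_U : Group.IsSolvable ↥(RGD.Sup X (RGD.Pos cs h)) := by
  have : Group.IsNilpotent ↥(RGD.Sup X (RGD.Pos cs h)) := R.isPGroup_Upos.isNilpotent
  infer_instance

/-- the setting -/
structure Ctx (R : RGD cs h p T n X) (H : Subgroup Y) (k : ℕ) : Prop where
  hG : GG cs h T X = ⊤
  ix : H.index = p ^ k

end Fin

omit R

section Fin

variable [Finite W] [Finite Y] [Fact p.Prime] {R : RGD cs h p T n X} {H : Subgroup Y} {k : ℕ}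

theorem Ctx.exists_mul (C : Ctx R H k) (g : Y) : ∃ u ∈ RGD.Sup X (RGD.Pos cs h), ∃ x ∈ H, g = u * x := by
  have hc : H.index.Coprime (RGD.Sup X (RGD.Pos cs h)).index := by
    rw [C.ix]
    exact Nat.Coprime.pow_left _ ((Nat.Prime.coprime_iff_not_dvd Fact.out).2 (not_dvd_index_U R C.hG))
  obtain ⟨x, hx, u, hu, e⟩ := H408.Core.exists_mul hc g⁻¹
  refine ⟨u⁻¹, inv_mem hu, x⁻¹, inv_mem hx, ?_⟩
  rw [← inv_inv g, e, mul_inv_rev]

/-- conjugating `H` -/
theorem Ctx.conj (C : Ctx R H k) (g : Y) : Ctx R (H.comap (MulAut.conj g).toMonoidHom) k := by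
  refine ⟨C.hG, ?_⟩
  rw [← C.ix]
  exact index_comap_of_surjective _ (MulAut.conj g).surjective

theorem Ctx.exists_T_le (C : Ctx R H k) : ∃ g : Y, ∀ t ∈ T, g * t * g⁻¹ ∈ H := by
  obtain ⟨u, hu, hf⟩ := Solvable.Glauberman.exists_smul_fixed T (RGD.Sup X (RGD.Pos cs h))
    R.T_le_normalizer_U (coprime_T_U R) (Or.inr (solvable_U R)) (X := Y ⧸ H) ((1 : Y) : Y ⧸ H) (by
      intro a ha
      obtain ⟨v, hv, x, hx, e⟩ := C.exists_mul a
      refine ⟨v, hv, ?_⟩
      rw [MulAction.Quotient.smul_mk, MulAction.Quotient.smul_mk, smul_eq_mul, smul_eq_mul, mul_one, mul_one,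
        QuotientGroup.eq]
      have e1 : a⁻¹ * v = x⁻¹ := by rw [e]; group
      rw [e1]
      exact inv_mem hx)
  refine ⟨u⁻¹, fun t ht => ?_⟩
  have h1 := hf t ht
  rw [MulAction.Quotient.smul_mk, MulAction.Quotient.smul_mk, smul_eq_mul, smul_eq_mul, mul_one, eq_comm,
    QuotientGroup.eq] at h1
  rw [inv_inv]
  have e1 : u⁻¹ * t * u = u⁻¹ * (t * u) := by group
  rw [e1]
  exact h1

/-- **Fixed points**: `g ∈ C_U(Y₀) H`. -/
theorem Ctx.exists_cent_mul (C : Ctx R H k) {Y₀ : Subgroup Y} (h1 : Y₀ ≤ T) (h2 : Y₀ ≤ H) {g : Y}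
    (hg : ∀ y ∈ Y₀, g⁻¹ * y * g ∈ H) :
    ∃ u ∈ RGD.Sup X (RGD.Pos cs h), ∃ x ∈ H, (∀ y ∈ Y₀, u * y = y * u) ∧ g = u * x := by
  obtain ⟨v, hv, x, hx, e⟩ := C.exists_mul g
  have hcop : (Nat.card Y₀).Coprime (Nat.card (RGD.Sup X (RGD.Pos cs h))) :=
    (coprime_T_U R).coprime_dvd_left (Subgroup.card_dvd_of_le h1)
  obtain ⟨c, hc, hcc, e2⟩ := Solvable.Glauberman.exists_centralizer_smul Y₀ (RGD.Sup X (RGD.Pos cs h))
    (h1.trans R.T_le_normalizer_U) hcop (Or.inr (solvable_U R)) (X := Y ⧸ H) ((1 : Y) : Y ⧸ H) ((g : Y) : Y ⧸ H)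
    (by
      intro a ha
      rw [MulAction.Quotient.smul_mk, smul_eq_mul, mul_one, QuotientGroup.eq, mul_one]
      exact inv_mem (h2 ha))
    (by
      intro a ha
      rw [MulAction.Quotient.smul_mk, smul_eq_mul, QuotientGroup.eq]
      have := inv_mem (hg a ha)
      have e1 : (a * g)⁻¹ * g = (g⁻¹ * a * g)⁻¹ := by group
      rw [e1]
      exact this)
    hv (by
      rw [MulAction.Quotient.smul_mk, smul_eq_mul, mul_one, QuotientGroup.eq, e]
      have e1 : v⁻¹ * (v * x) = x := by group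
      rw [e1]; exact hx)
  rw [MulAction.Quotient.smul_mk, smul_eq_mul, mul_one, QuotientGroup.eq] at e2
  refine ⟨c, hc, c⁻¹ * g, e2, fun y hy => (Subgroup.mem_centralizer_iff.1 hcc y hy).symm, by group⟩

/-- `N ≤ H` -/
theorem Ctx.N_le (C : Ctx R H k) (hT : T ≤ H)
    (hU : ∀ u ∈ RGD.Sup X (RGD.Pos cs h), (∀ t ∈ T, u * t = t * u) → u = 1) {w : W} {g : Y}
    (hg : Rp cs R.nsys w g) : g ∈ H := by
  obtain ⟨u, hu, x, hx, hc, e⟩ := C.exists_cent_mul (Y₀ := T) le_rfl hT (g := g) (fun t ht => by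
    have h1 : g⁻¹ ∈ Subgroup.normalizer (T : Set Y) := inv_mem hg.mem_normalizer
    have h2 := (Subgroup.mem_normalizer_iff.1 h1 t).1 ht
    rw [inv_inv] at h2
    exact hT h2)
  rw [hU u hu hc, one_mul] at e
  rw [e]
  exact hx

/-- the elements `z ≠ 1` centralised by a conjugate of `U` are not in `H` -/
theorem Ctx.normalClosure_le (C : Ctx R H k) {z g : Y} (hz : z ∈ H)
    (hc : ∀ u ∈ RGD.Sup X (RGD.Pos cs h), (g * z * g⁻¹) * u = u * (g * z * g⁻¹)) :
    normalClosure ({z} : Set Y) ≤ H := by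
  refine H408.Core.normalClosure_le Fact.out C.ix ?_ hz
  intro hd
  apply not_dvd_index_U R C.hG
  have h1 : RGD.Sup X (RGD.Pos cs h) ≤ (centralizer ({z} : Set Y)).map (MulAut.conj g).toMonoidHom := by
    intro u hu
    refine ⟨g⁻¹ * u * g, ?_, by simp [mul_assoc]⟩
    rw [SetLike.mem_coe, mem_centralizer_singleton_iff]
    have h2 := hc u hu
    calc g⁻¹ * u * g * z = g⁻¹ * (u * (g * z * g⁻¹)) * g := by group
      _ = g⁻¹ * ((g * z * g⁻¹) * u) * g := by rw [h2]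
      _ = z * (g⁻¹ * u * g) := by group
  have h2 := Subgroup.index_dvd_of_le h1
  have h3 : ((centralizer ({z} : Set Y)).map (MulAut.conj g).toMonoidHom).index =
      (centralizer ({z} : Set Y)).index :=
    Subgroup.index_map_of_bijective (MulAut.conj g).bijective _
  rw [h3] at h2
  exact hd.trans h2

theorem Ctx.eq_top (C : Ctx R H k) [IsSimpleGroup Y] {z g : Y} (hz : z ∈ H) (hz1 : z ≠ 1)
    (hc : ∀ u ∈ RGD.Sup X (RGD.Pos cs h), (g * z * g⁻¹) * u = u * (g * z * g⁻¹)) : H = ⊤ := by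
  have h1 := C.normalClosure_le hz hc
  have h2 : normalClosure ({z} : Set Y) = ⊤ := by
    rcases (inferInstance : (normalClosure ({z} : Set Y)).Normal).eq_bot_or_eq_top with h3 | h3
    · exfalso
      apply hz1
      have h4 : z ∈ normalClosure ({z} : Set Y) := subset_normalClosure rfl
      rw [h3, mem_bot] at h4
      exact h4
    · exact h3
  rw [h2] at h1
  exact top_le_iff.1 h1

/-! ### the isolation lemma -/

/-- one step -/
theorem one_step (R : RGD cs h p T n X) {x : I → ℤ} (hx : IsRoot cs h x) (h0 : 0 ≤ x) {S : Set (I → ℤ)} (hS : ∀ y ∈ S, IsRoot cs h y ∧ 0 ≤ y)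
    (hn : X x ≤ normalizer (RGD.Sup X S : Set Y)) {V : Subgroup Y} (hV : V ≤ X x ⊔ RGD.Sup X S)
    (hTV : T ≤ normalizer (V : Set Y)) {v : Y} (hv : v ∈ V) (hv' : v ∉ RGD.Sup X S) :
    ∃ c ∈ V, c ∉ RGD.Sup X S ∧ ∀ t ∈ T, (∀ a ∈ X x, t * a = a * t) → c * t = t * c := by
  have hVU : V ≤ RGD.Sup X (RGD.Pos cs h) :=
    hV.trans (sup_le (RGD.le_Sup ⟨hx, h0⟩) (RGD.Sup_mono hS))
  -- the centraliser of `X x` in `T`
  let Y₀ : Subgroup Y := T ⊓ centralizer (X x : Set Y)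
  have hY₀ : ∀ t, t ∈ Y₀ ↔ t ∈ T ∧ ∀ a ∈ X x, a * t = t * a := fun t => by
    rw [Subgroup.mem_inf, mem_centralizer_iff]
    rfl
  have hcop : (Nat.card Y₀).Coprime (Nat.card V) :=
    ((coprime_T_U R).coprime_dvd_left (Subgroup.card_dvd_of_le inf_le_left)).coprime_dvd_right
      (Subgroup.card_dvd_of_le hVU)
  let N : Subgroup Y := V ⊓ RGD.Sup X S
  have hTS : T ≤ normalizer (RGD.Sup X S : Set Y) := R.T_le_normalizer fun y hy => (hS y hy).1
  have hYN : Y₀ ≤ normalizer (N : Set Y) := by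
    intro t ht
    have h1 := hTV ht.1
    have h2 := hTS ht.1
    rw [mem_normalizer_iff] at h1 h2 ⊢
    intro z
    rw [Subgroup.mem_inf, Subgroup.mem_inf, ← h1 z, ← h2 z]
  have hsolN : Group.IsSolvable ↥N := by
    have h1 : IsPGroup p ↥N := R.isPGroup_Upos.to_le (inf_le_left.trans hVU)
    have : Group.IsNilpotent ↥N := h1.isNilpotent
    infer_instance
  obtain ⟨m, hm, hc⟩ := exists_cent (Y := Y₀) (V := V) (N := N) (inf_le_left.trans hTV) hYN inf_le_left hcop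
    (Or.inr hsolN) hv (by
      intro y hy
      obtain ⟨hyT, hyX⟩ := (hY₀ y).1 hy
      refine Subgroup.mem_inf.2 ⟨?_, ?_⟩
      · have h1 : y * v⁻¹ * y⁻¹ ∈ V := (mem_normalizer_iff.1 (hTV hyT) _).1 (inv_mem hv)
        have e : v * y * v⁻¹ * y⁻¹ = v * (y * v⁻¹ * y⁻¹) := by group
        rw [e]
        exact mul_mem hv h1
      · -- `v = a s`
        have h1 : v ∈ ((X x ⊔ RGD.Sup X S : Subgroup Y) : Set Y) := hV hv
        rw [Subgroup.coe_mul_of_left_le_normalizer_right _ _ hn, Set.mem_mul] at h1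
        obtain ⟨a, ha, s, hs, rfl⟩ := h1
        have h2 : y * s⁻¹ * y⁻¹ ∈ RGD.Sup X S := (mem_normalizer_iff.1 (hTS hyT) _).1 (inv_mem hs)
        have h3 : s * (y * s⁻¹ * y⁻¹) ∈ RGD.Sup X S := mul_mem hs h2
        have h4 := (mem_normalizer_iff.1 (hn ha) _).1 h3
        have e : a * s * y * (a * s)⁻¹ * y⁻¹ = a * (s * (y * s⁻¹ * y⁻¹)) * a⁻¹ := by
          have h5 : y * a⁻¹ = a⁻¹ * y := by
            have h6 := hyX a⁻¹ (inv_mem ha)
            exact h6.symm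
          calc a * s * y * (a * s)⁻¹ * y⁻¹ = a * s * y * s⁻¹ * (y⁻¹ * y * a⁻¹) * y⁻¹ := by group
            _ = a * s * y * s⁻¹ * (y⁻¹ * (y * a⁻¹)) * y⁻¹ := by group
            _ = a * s * y * s⁻¹ * (y⁻¹ * (a⁻¹ * y)) * y⁻¹ := by rw [h5]
            _ = a * (s * (y * s⁻¹ * y⁻¹)) * a⁻¹ := by group
        rw [e]
        exact h4)
  refine ⟨m⁻¹ * v, mul_mem (inv_mem hm.1) hv, ?_, fun t ht hta => hc t ((hY₀ t).2 ⟨ht, fun a ha => (hta a ha).symm⟩)⟩
  intro h1
  apply hv'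
  have h2 : v = m * (m⁻¹ * v) := by group
  rw [h2]
  exact mul_mem hm.2 h1

/-- **The isolation lemma.** -/
theorem exists_iso (R : RGD cs h p T n X) (w : W) {V : Subgroup Y} (hV : V ≤ RGD.Sup X (RGD.Pos cs h))
    (hTV : T ≤ normalizer (V : Set Y)) (hne : ¬ V ≤ RGD.Sup X (Fut cs h w)) :
    ∃ x, IsRoot cs h x ∧ 0 ≤ x ∧ x ∉ Fut cs h w ∧ ∃ c ∈ V, c ∉ RGD.Sup X (Fut cs h w) ∧
      ∀ t ∈ T, (∀ a ∈ X x, t * a = a * t) → c * t = t * c := by
  induction hn : cs.length w using Nat.strong_induction_on generalizing w with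
  | _ k ih =>
  by_cases h1 : w = 1
  · subst h1
    rw [fut_one] at hne
    exact absurd hV hne
  obtain ⟨i, hi⟩ := cs.exists_rightDescent_of_ne_one h1
  have hlt : cs.length (w * cs.simple i) < cs.length w := hi
  set w' := w * cs.simple i with hw'
  have hw : w = w' * cs.simple i := by rw [hw', mul_assoc, cs.simple_mul_simple_self, mul_one]
  have hpos : 0 ≤ rep cs h w' (sr i) := by
    refine (lt_iff' cs h w' i).1 ?_
    rw [← hw]
    exact hlt
  have hfut : Fut cs h w = Fut cs h w' \ {rep cs h w' (sr i)} := by rw [hw]; exact fut_mul hpos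
  by_cases h2 : V ≤ RGD.Sup X (Fut cs h w')
  · obtain ⟨v, hv, hv'⟩ := SetLike.not_le_iff_exists.1 hne
    have hmem := mem_fut hpos
    have h3 : RGD.Sup X (Fut cs h w') = X (rep cs h w' (sr i)) ⊔ RGD.Sup X (Fut cs h w) := by
      rw [hfut]
      exact sup_peel hmem
    have h4 : X (rep cs h w' (sr i)) ≤ normalizer (RGD.Sup X (Fut cs h w) : Set Y) := by
      rw [hfut]
      exact normalizer_peel R (fut_subset_pos w') (closed_fut w') hmem
    obtain ⟨c, hc, hc', hct⟩ := one_step R (x := rep cs h w' (sr i)) ⟨w', i, rfl⟩ hpos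
      (S := Fut cs h w) (fun y hy => ⟨hy.1, hy.2.1⟩) h4 (h2.trans h3.le) hTV hv hv'
    refine ⟨rep cs h w' (sr i), ⟨w', i, rfl⟩, hpos, ?_, c, hc, hc', hct⟩
    rw [hfut]
    exact fun h5 => h5.2 rfl
  · obtain ⟨x, hx, hx0, hxf, c, hc, hc', hct⟩ := ih _ (hn ▸ hlt) w' h2 rfl
    have hsub : Fut cs h w ⊆ Fut cs h w' := by rw [hfut]; exact Set.sdiff_subset
    exact ⟨x, hx, hx0, fun h5 => hxf (hsub h5), c, hc, fun h5 => hc' (RGD.Sup_mono hsub h5), hct⟩

/-! ### parabolic subgroups -/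

/-- If `H ∩ U ≤ Q`, `Q` normalised by `U`, then the elements of `H` normalising `Q` have a power prime to `p` in `Q`. -/
theorem Ctx.lev (C : Ctx R H k) {Q : Subgroup Y} (hUQ : RGD.Sup X (RGD.Pos cs h) ≤ normalizer (Q : Set Y))
    (hV : H ⊓ RGD.Sup X (RGD.Pos cs h) ≤ Q) (hQU : Q ≤ RGD.Sup X (RGD.Pos cs h)) {g : Y} (hg : g ∈ H)
    (hgQ : g ∈ normalizer (Q : Set Y)) : ∃ m, ¬ p ∣ m ∧ g ^ m ∈ Q := by
  set U := RGD.Sup X (RGD.Pos cs h) with hU
  set P : Subgroup Y := normalizer (Q : Set Y) with hP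
  let Rr : Subgroup Y := H ⊓ P
  have hVR : H ⊓ U ≤ Rr := inf_le_inf_left _ hUQ
  have hVeq : H ⊓ U = Rr ⊓ Q := by
    apply le_antisymm
    · exact le_inf hVR hV
    · rintro x ⟨⟨h1, -⟩, h2⟩
      exact ⟨h1, hQU h2⟩
  have hnorm : ((H ⊓ U).subgroupOf Rr).Normal := by
    refine ⟨fun v hv r => ?_⟩
    rw [mem_subgroupOf, hVeq, Subgroup.mem_inf] at hv ⊢
    refine ⟨(r * v * r⁻¹).2, ?_⟩
    exact (mem_normalizer_iff.1 r.2.2 _).1 hv.2
  refine ⟨((H ⊓ U).subgroupOf Rr).index, ?_, ?_⟩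
  · -- `|R : H ∩ U|` divides `|Y : U|`... it is `|P : U|`
    intro hd
    apply not_dvd_index_U R C.hG
    have h1 : (H ⊓ U).relIndex Rr = U.relIndex Rr := by
      rw [← inf_relIndex_right U Rr]
      congr 1
      apply le_antisymm
      · exact le_inf inf_le_right hVR
      · rintro x ⟨h2, h3⟩
        exact ⟨h3.1, h2⟩
    have h2 : p ∣ U.relIndex Rr := by rw [← h1]; exact hd
    -- `U.relIndex R ≤ U.index`; use `P = R U`
    have h3 : U.relIndex Rr = U.relIndex P := by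
      -- the map `R / (R ∩ U) → P / U` is a bijection
      have hfac : ∀ g ∈ P, ∃ x ∈ Rr, ∃ u ∈ U, g = x * u := by
        intro g hg
        obtain ⟨u, hu, x, hx, e⟩ := C.exists_mul g⁻¹
        refine ⟨x⁻¹, Subgroup.mem_inf.2 ⟨inv_mem hx, ?_⟩, u⁻¹, inv_mem hu, by rw [← inv_inv g, e, mul_inv_rev]⟩
        have e2 : x⁻¹ = g * u := by
          have : x = u⁻¹ * g⁻¹ := by rw [e]; group
          rw [this]; group
        rw [e2]
        exact mul_mem hg (hUQ hu)
      let f : Rr ⧸ (U.subgroupOf Rr) → P ⧸ (U.subgroupOf P) :=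
        Quotient.map' (fun m : Rr => (⟨m, m.2.2⟩ : P)) (by
          intro a b hab
          rw [QuotientGroup.leftRel_apply] at hab ⊢
          exact hab)
      have hf : Function.Bijective f := by
        constructor
        · intro a b
          induction a using Quotient.inductionOn' with | h a => ?_
          induction b using Quotient.inductionOn' with | h b => ?_
          intro hab
          have h2 := Quotient.exact' hab
          rw [QuotientGroup.leftRel_apply] at h2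
          apply Quotient.sound'
          rw [QuotientGroup.leftRel_apply]
          exact h2
        · intro b
          induction b using Quotient.inductionOn' with | h b => ?_
          obtain ⟨x, hx, u, hu, e⟩ := hfac b b.2
          refine ⟨Quotient.mk'' ⟨x, hx⟩, Quotient.sound' ?_⟩
          rw [QuotientGroup.leftRel_apply, mem_subgroupOf]
          change x⁻¹ * (b : Y) ∈ U
          rw [e]
          have : x⁻¹ * (x * u) = u := by group
          rw [this]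
          exact hu
      exact Nat.card_congr (Equiv.ofBijective f hf)
    rw [h3] at h2
    have h4 := relIndex_mul_index hUQ
    rw [← h4]
    exact h2.mul_right _
  · have h1 : (⟨g, hg, hgQ⟩ : ↥Rr) ^ ((H ⊓ U).subgroupOf Rr).index ∈ (H ⊓ U).subgroupOf Rr :=
      Subgroup.pow_index_mem _ _
    rw [mem_subgroupOf, SubgroupClass.coe_pow] at h1
    exact hV h1

end Fin

end Rgd

end Cfsg.Agent.H225.PPow
end

-- part: H225/PPow/Main
section
set_option linter.all false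
open scoped Cfsg.Agent.FastGrp

-- part: H225/PPow/Panel
section
/-!
# The panel lemma (helper225)

Rank one groups `M = X T ∪ X n T X` with `T` transitive on `X ∖ 1` have no complement to `X` containing `T` and `n` if
`|X| ≥ 6`.
-/

set_option autoImplicit false
set_option linter.unusedSectionVars false

namespace Cfsg.Agent.H225.PPow.Panel

variable {G : Type*} [Group G] {B A T X : Subgroup G} {n : G}

/-- the data -/
structure Dat (B A T X : Subgroup G) (n : G) : Prop where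
  tA : T ≤ A
  tB : T ≤ B
  xB : X ≤ B
  nA : n ∈ A
  inf : ∀ a ∈ A, a ∈ B → a ∈ T
  nt : ∀ t ∈ T, n⁻¹ * t * n ∈ T
  nn : n * n ∈ T
  pt : ∀ a ∈ A, a ∈ B ∨ ∃ x ∈ X, (x * n)⁻¹ * a ∈ B
  tr : ∀ x ∈ X, ∃ a ∈ A, (x * n)⁻¹ * a ∈ B
  inj : ∀ x ∈ X, ∀ y ∈ X, (x * n)⁻¹ * (y * n) ∈ B → x = y
  ne : ∀ x ∈ X, x * n ∉ B
  cm : ∀ s ∈ T, ∀ t ∈ T, s * t = t * s
  tX : ∀ t ∈ T, ∀ x ∈ X, t * x * t⁻¹ ∈ X
  reg : ∀ x ∈ X, ∀ y ∈ X, x ≠ 1 → y ≠ 1 → ∃ t ∈ T, t * x * t⁻¹ = y

/-- the coset -/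
def E (B : Subgroup G) (a b : G) : Prop := a⁻¹ * b ∈ B

theorem E.refl (a : G) : E B a a := by unfold E; rw [inv_mul_cancel]; exact one_mem _
theorem E.symm {a b : G} (h : E B a b) : E B b a := by
  unfold E at *
  have := inv_mem h
  rwa [mul_inv_rev, inv_inv] at this
theorem E.trans {a b c : G} (h : E B a b) (h' : E B b c) : E B a c := by
  unfold E at *
  have := mul_mem h h'
  have e : a⁻¹ * b * (b⁻¹ * c) = a⁻¹ * c := by group
  rwa [e] at this
theorem E.mul {a b : G} (g : G) (h : E B a b) : E B (g * a) (g * b) := by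
  unfold E at *
  have e : (g * a)⁻¹ * (g * b) = a⁻¹ * b := by group
  rwa [e]
theorem E.right {a b : G} (h : b ∈ B) : E B a (a * b) := by
  unfold E
  rw [inv_mul_cancel_left]; exact h

variable (D : Dat B A T X n)
include D

theorem n_notin : n ∉ B := by
  have := D.ne 1 (one_mem _)
  rwa [one_mul] at this

/-- `σ` is well defined -/
theorem sig {a b : G} (ha : a ∈ A) (hb : b ∈ A) (h : E B a b) : E B (a * n) (b * n) := by
  have h1 : a⁻¹ * b ∈ T := D.inf _ (mul_mem (inv_mem ha) hb) h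
  have h2 := D.nt _ h1
  unfold E
  have e : (a * n)⁻¹ * (b * n) = n⁻¹ * (a⁻¹ * b) * n := by group
  rw [e]
  exact D.tB h2

theorem sig2 (a : G) : E B a (a * n * n) := by
  rw [mul_assoc]
  exact E.right (D.tB D.nn)

theorem sig_iff {a b : G} (ha : a ∈ A) (hb : b ∈ A) (h : E B (a * n) b) : E B a (b * n) :=
  (sig2 D a).trans (sig D (mul_mem ha D.nA) hb h)

theorem tpt {t x : G} (ht : t ∈ T) : E B (t * x * t⁻¹ * n) (t * (x * n)) := by
  unfold E
  have e : (t * x * t⁻¹ * n)⁻¹ * (t * (x * n)) = n⁻¹ * t * n := by group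
  rw [e]
  exact D.tB (D.nt t ht)

/-- the partner involution is given by an element of `T` -/
theorem exists_s (hX : ∃ x ∈ X, x ≠ 1) : ∃ s ∈ T, ∀ a ∈ A, ¬ E B a 1 → ¬ E B a n → E B (a * n) (s * a) := by
  obtain ⟨x₀, hx₀, hne⟩ := hX
  obtain ⟨a₀, ha₀, h0⟩ := D.tr x₀ hx₀
  have h0' : E B (x₀ * n) a₀ := h0
  have ha₀n : a₀ * n ∈ A := mul_mem ha₀ D.nA
  have h1 : ∃ y₀ ∈ X, E B (y₀ * n) (a₀ * n) ∧ y₀ ≠ 1 := by
    rcases D.pt _ ha₀n with h2 | ⟨y, hy, h2⟩
    · exfalso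
      -- `[a₀ n] = [1]`
      have h3 : E B (a₀ * n) 1 := by
        unfold E
        rw [mul_one]; exact inv_mem h2
      have h4 := sig_iff D ha₀ (one_mem _) h3
      rw [one_mul] at h4
      have h5 : E B (x₀ * n) (1 * n) := by rw [one_mul]; exact h0'.trans h4
      exact hne (D.inj _ hx₀ _ (one_mem _) h5)
    · refine ⟨y, hy, h2, ?_⟩
      rintro rfl
      have h3 : E B n (a₀ * n) := by
        have h4 : E B (1 * n) (a₀ * n) := h2
        rwa [one_mul] at h4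
      have h4 := sig_iff D ha₀ D.nA h3.symm
      -- `[a₀] = [n n] = [1]`
      have h5 : E B (x₀ * n) 1 := by
        refine h0'.trans (h4.trans ?_)
        unfold E
        rw [mul_one]
        exact inv_mem (D.tB D.nn)
      apply D.ne x₀ hx₀
      unfold E at h5
      rw [mul_one] at h5
      have := inv_mem h5
      rwa [inv_inv] at this
  obtain ⟨y₀, hy₀, hy, hy1⟩ := h1
  obtain ⟨s, hs, e⟩ := D.reg x₀ hx₀ y₀ hy₀ hne hy1
  have h2 : E B (a₀ * n) (s * a₀) := by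
    refine hy.symm.trans ?_
    rw [← e]
    exact (tpt D hs).trans (h0'.mul s)
  refine ⟨s, hs, fun a ha h3 h4 => ?_⟩
  rcases D.pt a ha with h5 | ⟨x, hx, h5⟩
  · exfalso
    apply h3
    unfold E
    rw [mul_one]; exact inv_mem h5
  · have h5' : E B (x * n) a := h5
    have hx1 : x ≠ 1 := by
      rintro rfl
      rw [one_mul] at h5'
      exact h4 h5'.symm
    obtain ⟨t, ht, e'⟩ := D.reg x₀ hx₀ x hx hne hx1
    have h6 : E B (t * a₀) a := by
      refine ((h0'.mul t).symm.trans ?_).trans h5'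
      rw [← e']
      exact (tpt D ht).symm
    have h7 : E B (t * a₀ * n) (a * n) := sig D (mul_mem (D.tA ht) ha₀) ha h6
    refine h7.symm.trans ?_
    have h8 : E B (t * (a₀ * n)) (t * (s * a₀)) := h2.mul t
    have e2 : t * (s * a₀) = s * (t * a₀) := by
      rw [← mul_assoc, D.cm t ht s hs, mul_assoc]
    rw [e2] at h8
    rw [mul_assoc]
    exact h8.trans (h6.mul s)

/-- **The panel lemma.** -/
theorem main (hX : 6 ≤ Nat.card X) : False := by
  classical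
  have hfin : Finite X := Nat.finite_of_card_ne_zero (by omega)
  have : Fintype X := Fintype.ofFinite X
  have hcard : 6 ≤ Fintype.card X := by rwa [← Nat.card_eq_fintype_card]
  -- choice of new elements
  have pick : ∀ F : Finset X, F.card ≤ 5 → ∃ x : X, x ∉ F := by
    intro F hF
    by_contra hcon
    push Not at hcon
    have : F = Finset.univ := Finset.eq_univ_iff_forall.2 hcon
    rw [this, Finset.card_univ] at hF
    omega
  obtain ⟨x₁, hx₁⟩ := pick {1} (by simp)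
  have hx₁1 : (x₁ : G) ≠ 1 := fun h => hx₁ (by simp [Subtype.ext_iff, h])
  obtain ⟨s, hs, hσ⟩ := exists_s D ⟨x₁, x₁.2, hx₁1⟩
  -- partners
  have part : ∀ x : X, (x : G) ≠ 1 → ∃ y : X, E B (y * n) (s * (x * n)) := by
    intro x _
    refine ⟨⟨s * x * s⁻¹, D.tX s hs x x.2⟩, ?_⟩
    exact tpt D hs
  obtain ⟨y₁, hy₁⟩ := part x₁ hx₁1
  obtain ⟨x₂, hx₂⟩ := pick {1, x₁, y₁} (Finset.card_le_three.trans (by norm_num))
  simp only [Finset.mem_insert, Finset.mem_singleton, not_or] at hx₂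
  have hx₂1 : (x₂ : G) ≠ 1 := fun h => hx₂.1 (Subtype.ext h)
  obtain ⟨y₂, hy₂⟩ := part x₂ hx₂1
  obtain ⟨x₃, hx₃⟩ := pick {1, x₁, y₁, x₂, y₂} Finset.card_le_five
  simp only [Finset.mem_insert, Finset.mem_singleton, not_or] at hx₃
  have hx₃1 : (x₃ : G) ≠ 1 := fun h => hx₃.1 (Subtype.ext h)
  obtain ⟨b₁, hb₁, e₁⟩ := D.tr x₁ x₁.2
  obtain ⟨b₂, hb₂, e₂⟩ := D.tr x₂ x₂.2
  obtain ⟨b₃, hb₃, e₃⟩ := D.tr x₃ x₃.2
  change E B _ _ at e₁ e₂ e₃
  -- the points
  have n1 : ∀ (x : X) (b : G), E B (x * n) b → ¬ E B b 1 := by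
    intro x b e h
    have h1 := e.trans h
    unfold E at h1
    rw [mul_one] at h1
    have := inv_mem h1
    rw [inv_inv] at this
    exact D.ne x x.2 this
  have n2 : ∀ (x : X) (b : G), E B (x * n) b → (x : G) ≠ 1 → ¬ E B b n := by
    intro x b e hx h
    have h1 : E B (x * n) (1 * n) := by rw [one_mul]; exact e.trans h
    exact hx (D.inj x x.2 1 (one_mem _) h1)
  have n3 : ∀ (x y : X) (b c : G), E B (x * n) b → E B (y * n) c → x ≠ y → ¬ E B b c := by
    intro x y b c e e' hxy h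
    exact hxy (Subtype.ext (D.inj x x.2 y y.2 (e.trans (h.trans e'.symm))))
  -- the partners of the `b`
  have p₁ : E B (b₁ * n) (s * b₁) := hσ b₁ hb₁ (n1 _ _ e₁) (n2 _ _ e₁ hx₁1)
  have p₂ : E B (b₂ * n) (s * b₂) := hσ b₂ hb₂ (n1 _ _ e₂) (n2 _ _ e₂ hx₂1)
  have q₁ : E B (y₁ * n) (b₁ * n) := hy₁.trans ((e₁.mul s).trans p₁.symm)
  have q₂ : E B (y₂ * n) (b₂ * n) := hy₂.trans ((e₂.mul s).trans p₂.symm)
  have m1 : ¬ E B b₁ 1 := n1 _ _ e₁
  have m1' : ¬ E B b₁ n := n2 _ _ e₁ hx₁1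
  have m2 : ¬ E B b₂ 1 := n1 _ _ e₂
  have m2' : ¬ E B b₂ n := n2 _ _ e₂ hx₂1
  have m12 : ¬ E B b₂ b₁ := n3 _ _ _ _ e₂ e₁ hx₂.2.1
  have m12' : ¬ E B b₂ (b₁ * n) := n3 _ _ _ _ e₂ q₁ hx₂.2.2
  have m31 : ¬ E B b₃ b₁ := n3 _ _ _ _ e₃ e₁ hx₃.2.1
  have m31' : ¬ E B b₃ (b₁ * n) := n3 _ _ _ _ e₃ q₁ hx₃.2.2.1
  have m32 : ¬ E B b₃ b₂ := n3 _ _ _ _ e₃ e₂ hx₃.2.2.2.1
  have m32' : ¬ E B b₃ (b₂ * n) := n3 _ _ _ _ e₃ q₂ hx₃.2.2.2.2
  have ns : ∀ b, E B (b * n) 1 → b ∈ A → E B b n := by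
    intro b h hb
    have := sig_iff D hb (one_mem _) h
    rwa [one_mul] at this
  have ns' : ∀ b, E B (b * n) n → b ∈ A → E B b 1 := by
    intro b h hb
    have h1 := sig_iff D hb D.nA h
    refine h1.trans ?_
    unfold E
    rw [mul_one]
    exact inv_mem (D.tB D.nn)
  -- the elements `r b`
  have hsn : E B (s * n) n := by
    unfold E
    have e : (s * n)⁻¹ * n = n⁻¹ * s⁻¹ * n := by group
    rw [e]
    exact D.tB (D.nt _ (inv_mem hs))
  have hs1 : E B (s * 1) 1 := by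
    unfold E
    have e : (s * 1)⁻¹ * 1 = s⁻¹ := by group
    rw [e]
    exact inv_mem (D.tB hs)
  have R1 : ∀ b ∈ A, ∀ a ∈ A, E B a b ∨ E B a (b * n) → E B (b * s * b⁻¹ * a) a := by
    rintro b hb a ha (h1 | h1)
    · have h2 : E B (b⁻¹ * a) 1 := by
        have := h1.mul b⁻¹
        rwa [inv_mul_cancel] at this
      have h3 : E B (b * (s * (b⁻¹ * a))) (b * (s * 1)) := (h2.mul s).mul b
      have h4 : E B (b * (s * 1)) (b * 1) := hs1.mul b
      have e : b * s * b⁻¹ * a = b * (s * (b⁻¹ * a)) := by group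
      rw [e]
      refine (h3.trans h4).trans ?_
      rw [mul_one]; exact h1.symm
    · have h2 : E B (b⁻¹ * a) n := by
        have := h1.mul b⁻¹
        rwa [inv_mul_cancel_left] at this
      have h3 : E B (b * (s * (b⁻¹ * a))) (b * (s * n)) := (h2.mul s).mul b
      have h4 : E B (b * (s * n)) (b * n) := hsn.mul b
      have e : b * s * b⁻¹ * a = b * (s * (b⁻¹ * a)) := by group
      rw [e]
      exact (h3.trans h4).trans h1.symm
  have R2 : ∀ b ∈ A, ∀ a ∈ A, ¬ E B a b → ¬ E B a (b * n) → E B (b * s * b⁻¹ * a) (a * n) := by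
    intro b hb a ha h1 h2
    have h3 : E B (b⁻¹ * a * n) (s * (b⁻¹ * a)) := by
      refine hσ _ (mul_mem (inv_mem hb) ha) (fun h => h1 ?_) (fun h => h2 ?_)
      · have := h.mul b
        rwa [mul_inv_cancel_left, mul_one] at this
      · have := h.mul b
        rwa [mul_inv_cancel_left] at this
    have h4 := h3.symm.mul b
    have e : b * s * b⁻¹ * a = b * (s * (b⁻¹ * a)) := by group
    have e2 : b * (b⁻¹ * a * n) = a * n := by group
    rw [e2] at h4
    rw [e]; exact h4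
  set r₁ := b₁ * s * b₁⁻¹ with hr₁
  set r₂ := b₂ * s * b₂⁻¹ with hr₂
  have hsA := D.tA hs
  have hr₁A : r₁ ∈ A := mul_mem (mul_mem hb₁ hsA) (inv_mem hb₁)
  have hr₂A : r₂ ∈ A := mul_mem (mul_mem hb₂ hsA) (inv_mem hb₂)
  -- `g = r₁ r₂` fixes `[1]`
  have g1 : E B (r₁ * r₂ * 1) 1 := by
    have h1 : E B (r₂ * 1) (1 * n) := R2 b₂ hb₂ 1 (one_mem _) (fun h => m2 h.symm) (fun h => m2' (ns _ h.symm hb₂))
    have h2 : E B (r₁ * n) (n * n) := R2 b₁ hb₁ n D.nA (fun h => m1' h.symm) (fun h => m1 (ns' _ h.symm hb₁))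
    rw [one_mul] at h1
    have h3 : E B (r₁ * (r₂ * 1)) (r₁ * n) := h1.mul r₁
    rw [mul_assoc]
    refine (h3.trans h2).trans ?_
    unfold E
    rw [mul_one]
    exact inv_mem (D.tB D.nn)
  have gT : r₁ * r₂ ∈ T := by
    refine D.inf _ (mul_mem hr₁A hr₂A) ?_
    unfold E at g1
    rw [mul_one, mul_one] at g1
    have := inv_mem g1
    rwa [inv_inv] at this
  -- `g` fixes `[b₃]`
  have g3 : E B (r₁ * r₂ * b₃) b₃ := by
    have h1 : E B (r₂ * b₃) (b₃ * n) := R2 b₂ hb₂ b₃ hb₃ m32 m32'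
    have hb₃n := mul_mem hb₃ D.nA
    have h2 : E B (r₁ * (b₃ * n)) (b₃ * n * n) := by
      refine R2 b₁ hb₁ _ hb₃n (fun h => m31' (sig_iff D hb₃ hb₁ h)) (fun h => m31 ?_)
      have h3 := sig_iff D hb₃ (mul_mem hb₁ D.nA) h
      exact h3.trans (sig2 D b₁).symm
    rw [mul_assoc]
    exact ((h1.mul r₁).trans h2).trans (sig2 D b₃).symm
  -- so it centralises `X`
  have gc : ∀ x ∈ X, (r₁ * r₂) * x * (r₁ * r₂)⁻¹ = x := by
    set g := r₁ * r₂ with hg
    have h1 : g * x₃ * g⁻¹ = x₃ := by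
      refine D.inj _ (D.tX g gT x₃ x₃.2) _ x₃.2 ?_
      have h2 := tpt D (x := (x₃ : G)) gT
      exact h2.trans ((e₃.mul g).trans (g3.trans e₃.symm))
    intro x hx
    by_cases hx1 : x = 1
    · rw [hx1]; group
    obtain ⟨t, ht, e⟩ := D.reg x₃ x₃.2 x hx hx₃1 hx1
    rw [← e]
    have h2 := D.cm g gT t ht
    calc g * (t * x₃ * t⁻¹) * g⁻¹ = (g * t) * x₃ * (g * t)⁻¹ := by group
      _ = t * (g * x₃ * g⁻¹) * t⁻¹ := by rw [h2]; group
      _ = t * x₃ * t⁻¹ := by rw [h1]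
  -- but it moves `[b₁]`
  have g4 : E B (r₁ * r₂ * b₁) (b₁ * n) := by
    have h1 : E B (r₂ * b₁) (b₁ * n) := R2 b₂ hb₂ b₁ hb₁ (fun h => m12 h.symm) (fun h => m12' (by
      have h3 := sig_iff D hb₂ hb₁ h.symm
      exact h3))
    have h2 : E B (r₁ * (b₁ * n)) (b₁ * n) := R1 b₁ hb₁ _ (mul_mem hb₁ D.nA) (Or.inr (E.refl _))
    rw [mul_assoc]
    exact (h1.mul r₁).trans h2
  have g5 : E B (r₁ * r₂ * b₁) b₁ := by
    have h2 := tpt D (x := (x₁ : G)) gT
    rw [gc x₁ x₁.2] at h2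
    exact ((e₁.mul _).symm.trans h2.symm).trans e₁
  have h6 := g4.symm.trans g5
  unfold E at h6
  have e : (b₁ * n)⁻¹ * b₁ = n⁻¹ := by group
  rw [e] at h6
  have := inv_mem h6
  rw [inv_inv] at this
  exact n_notin D this

end Cfsg.Agent.H225.PPow.Panel
end

-- part: H225/PPow/Main
section
/-!
# Subgroups of `p`-power index in a group with a root group datum in characteristic `p`: main lemmas (helper225)

* `Ctx.eq_top_of_LR` : `1 ≠ z ∈ H ∩ X a` with `LR R a` : `H = ⊤`;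
* `Ctx.lev_N` : an element of `N ∩ H` whose image in `W` has order `p` : `H ∩ U` is not in the radical;
* `Ctx.panel` : the panel lemma;
* `Ctx.exists_root`, `Ctx.exists_simple_two`.
-/

set_option autoImplicit false
set_option linter.unusedSectionVars false

namespace Cfsg.Agent.H225.PPow

open Subgroup
open CoxeterSystem Cfsg.Agent.ChevalleyStructure.CoxeterGeom Cfsg.Agent.Tits.Roots Cfsg.Agent.Tits.Core
  Cfsg.Agent.Tits.RootComb Cfsg.Agent.Tits.Exchange Cfsg.Agent.Nodes.Comb Cfsg.Agent.Nodes.Reps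
  Cfsg.Agent.Nodes.BNOf Cfsg.Agent.Nodes.Unique Cfsg.Agent.Nodes.StabComb Cfsg.Agent.Nodes.Bruhat
  Cfsg.Agent.Nodes.OppDec Cfsg.Agent.Nodes.LeviDec Cfsg.Agent.Nodes.NormalForm Cfsg.Agent.Nodes.Coroot
  Cfsg.Agent.KFacts.RgdTI

variable {I W Y : Type*} [Fintype I] [DecidableEq I] [Group W] [Group Y] {M : CoxeterMatrix I}
  {cs : CoxeterSystem M W} {A : I → I → ℤ} {h : IsCartan M A} {p : ℕ} {T : Subgroup Y} {n : I → Y}
  {X : (I → ℤ) → Subgroup Y}

/-- The centraliser in `U` of the kernel of the root `x` in `T` is `X x`. -/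
def Sep (cs : CoxeterSystem M W) (h : IsCartan M A) (T : Subgroup Y) (X : (I → ℤ) → Subgroup Y) (x : I → ℤ) : Prop :=
  ∀ u ∈ RGD.Sup X (RGD.Pos cs h), (∀ t ∈ T, (∀ a ∈ X x, t * a = a * t) → u * t = t * u) → u ∈ X x

/-- `Sep` from the root groups. -/
theorem sep_of [Finite W] (R : RGD cs h p T n X) {x : I → ℤ}
    (hs : ∀ y, IsRoot cs h y → 0 ≤ y → y ≠ x → ∀ u ∈ X y,
      (∀ t ∈ T, (∀ a ∈ X x, t * a = a * t) → u * t = t * u) → u = 1) : Sep cs h T X x := by
  intro u hu hc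
  let S : Set Y := {t | t ∈ T ∧ ∀ a ∈ X x, t * a = a * t}
  have hS : S ⊆ T := fun t ht => ht.1
  have h1 : u ∈ RGD.Sup X (RGD.Pos cs h) ⊓ centralizer S :=
    Subgroup.mem_inf.2 ⟨hu, mem_centralizer_iff.2 fun t ht => (hc t ht.1 ht.2).symm⟩
  rw [centralizer_U R hS] at h1
  have h2 : RGD.Sup (fun x => X x ⊓ centralizer S) (RGD.Pos cs h) ≤ X x := by
    refine RGD.Sup_le fun y hy => ?_
    rintro v ⟨hv, hvc⟩
    by_cases hyx : y = x
    · rw [← hyx]; exact hv
    · have := hs y hy.1 hy.2 hyx v hv (fun t ht hta => (mem_centralizer_iff.1 hvc t ⟨ht, hta⟩).symm)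
      rw [this]; exact one_mem _
  exact h2 h1

/-- `C_U(T) = 1` from the root groups -/
theorem cent_T_of [Finite W] (R : RGD cs h p T n X)
    (hs : ∀ y, IsRoot cs h y → 0 ≤ y → ∀ u ∈ X y, (∀ t ∈ T, u * t = t * u) → u = 1) :
    ∀ u ∈ RGD.Sup X (RGD.Pos cs h), (∀ t ∈ T, u * t = t * u) → u = 1 := by
  intro u hu hc
  have h1 : u ∈ RGD.Sup X (RGD.Pos cs h) ⊓ centralizer (T : Set Y) :=
    Subgroup.mem_inf.2 ⟨hu, mem_centralizer_iff.2 fun t ht => (hc t ht).symm⟩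
  rw [centralizer_U R (S := (T : Set Y)) subset_rfl] at h1
  have h2 : RGD.Sup (fun x => X x ⊓ centralizer (T : Set Y)) (RGD.Pos cs h) ≤ ⊥ := by
    refine RGD.Sup_le fun y hy => ?_
    rintro v ⟨hv, hvc⟩
    rw [mem_bot]
    exact hs y hy.1 hy.2 v hv (fun t ht => (mem_centralizer_iff.1 hvc t ht).symm)
  exact (mem_bot.1 (h2 h1))

/-- the elements of `T` centralising `X α_i` commute with `n i` -/
theorem comm_n [Finite W] (R : RGD cs h p T n X) (hTc : ∀ s ∈ T, ∀ t ∈ T, s * t = t * s) {i : I} {t : Y} (ht : t ∈ T)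
    (hc : ∀ a ∈ X (sr i), t * a = a * t) : t * n i = n i * t := by
  obtain ⟨u, hu, hu1⟩ := exists_ne_one R i
  have h1 : n i * u * (n i)⁻¹ ∈ X (-sr i) := by
    have := R.conj_mem (rp_simple cs R.nsys i) (isRoot_sr cs h i) hu
    rwa [rep_simple_sr] at this
  have h2 : n i * u * (n i)⁻¹ ≠ 1 := by
    intro h3
    exact hu1 (mul_eq_left.1 (mul_inv_eq_one.1 h3))
  set v := n i * u * (n i)⁻¹ with hv
  obtain ⟨a, ha, s, hs, b, hb, e⟩ := R.rk1 i v h1 h2
  have hnt : (n i)⁻¹ * t * n i ∈ T := by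
    have h3 := (Subgroup.mem_normalizer_iff.1 (inv_mem (R.nsys.norm i)) t).1 ht
    rwa [inv_inv] at h3
  have h3 : t * v * t⁻¹ ∈ X (-sr i) := by
    have h4 := R.tor (-sr i) (isRoot_sr cs h i).neg t ht
    rw [← h4]
    exact conj_mem_cj.2 h1
  -- `v⁻¹ v^t = b⁻¹ (n⁻¹ t n t⁻¹) b`
  have e1 : v⁻¹ * (t * v * t⁻¹) = b⁻¹ * ((n i)⁻¹ * t * n i * t⁻¹) * b := by
    have h5 : t * a = a * t := hc a ha
    have h6 : t * b = b * t := hc b hb
    have h7 : t * s = s * t := hTc t ht s hs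
    have h8 : b * t⁻¹ = t⁻¹ * b := by
      calc b * t⁻¹ = t⁻¹ * (t * b) * t⁻¹ := by group
        _ = t⁻¹ * (b * t) * t⁻¹ := by rw [h6]
        _ = t⁻¹ * b := by group
    have h9 : t * v * t⁻¹ = a * s * t * n i * t⁻¹ * b := by
      calc t * v * t⁻¹ = (t * a) * s * n i * (b * t⁻¹) := by rw [e]; group
        _ = (a * t) * s * n i * (t⁻¹ * b) := by rw [h5, h8]
        _ = a * (t * s) * n i * t⁻¹ * b := by group
        _ = a * (s * t) * n i * t⁻¹ * b := by rw [h7]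
        _ = a * s * t * n i * t⁻¹ * b := by group
    rw [h9, e]
    group
  have h4 : v⁻¹ * (t * v * t⁻¹) ∈ X (-sr i) ⊓ RGD.B cs h T X := by
    refine Subgroup.mem_inf.2 ⟨mul_mem (inv_mem h1) h3, ?_⟩
    rw [e1]
    have hbB : b ∈ RGD.B cs h T X := RGD.X_le_B (isRoot_sr cs h i) (sr_nonneg i) hb
    exact mul_mem (mul_mem (inv_mem hbB) (RGD.T_le_B (mul_mem hnt (inv_mem ht)))) hbB
  rw [neg_inf_B R i, mem_bot, e1] at h4
  have h5 : (n i)⁻¹ * t * n i * t⁻¹ = 1 := by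
    calc (n i)⁻¹ * t * n i * t⁻¹ = b * (b⁻¹ * ((n i)⁻¹ * t * n i * t⁻¹) * b) * b⁻¹ := by group
      _ = 1 := by rw [h4]; group
  calc t * n i = n i * ((n i)⁻¹ * t * n i * t⁻¹) * t := by group
    _ = n i * t := by rw [h5, mul_one]

/-- `B ∩ L_i = X_i T` -/
theorem mem_BJ_single {i : I} (R : RGD cs h p T n X) {g : Y} (hg : g ∈ BJ cs h T X {i}) :
    ∃ x ∈ X (sr i), ∃ t ∈ T, g = x * t := by
  have h1 : UJ cs h X {i} ≤ X (sr i) := by
    unfold UJ
    refine RGD.Sup_le fun x hx => ?_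
    have : x = sr i := hx.1.eq_sr hx.2.1 i fun k hk => hx.2.2 k hk
    rw [this]
  have h2 : BJ cs h T X {i} ≤ T ⊔ X (sr i) := sup_le_sup_left h1 _
  have h3 := h2 (inv_mem hg)
  have hn : T ≤ normalizer (X (sr i) : Set Y) := fun t ht =>
    mem_normalizer_iff_cj.2 (R.tor _ (isRoot_sr cs h i) t ht)
  rw [← SetLike.mem_coe, Subgroup.coe_mul_of_left_le_normalizer_right _ _ hn, Set.mem_mul] at h3
  obtain ⟨t, ht, x, hx, e⟩ := h3
  refine ⟨x⁻¹, inv_mem hx, t⁻¹, inv_mem ht, ?_⟩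
  have e' : t * x = g⁻¹ := e
  rw [← mul_inv_rev, e', inv_inv]

section Fin

variable [Finite W] [Finite Y] [Fact p.Prime] {R : RGD cs h p T n X} {H : Subgroup Y} {k : ℕ}

/-- **Root elements.** -/
theorem Ctx.eq_top_of_LR (C : Ctx R H k) [IsSimpleGroup Y] {a : I → ℤ} (L : LR R a) {z : Y} (hz : z ∈ H)
    (hza : z ∈ X a) (hz1 : z ≠ 1) : H = ⊤ := by
  obtain ⟨w, hw⟩ := L.exists_dominant
  obtain ⟨g, hg⟩ := exists_rp cs R.nsys w
  have L' := L.act w
  have h1 : g * z * g⁻¹ ∈ X (rep cs h w a) := R.conj_mem hg L.root hza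
  refine C.eq_top hz hz1 (g := g) fun u hu => ?_
  have h2 : RGD.Pos cs h ⊆ Ge cs h (rep cs h w a) := by
    intro x hx
    refine ⟨hx.1, ?_⟩
    have e : x = ∑ j, x j • sr j := by
      funext k
      rw [Finset.sum_apply, Finset.sum_eq_single k (fun b _ hb => by
        rw [Pi.smul_apply, sr_ne hb.symm, smul_zero]) (by simp), Pi.smul_apply, sr_self, smul_eq_mul, mul_one]
    have h3 : cpr cs h x (rep cs h w a) = ell cs h L'.root x := rfl
    rw [h3, e, map_sum]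
    refine Finset.sum_nonneg fun j _ => ?_
    rw [map_zsmul, smul_eq_mul]
    exact mul_nonneg (hx.2 j) (hw j)
  exact (L'.comm' (RGD.Sup_mono h2 hu) h1).symm

/-- an element of `H ∩ N` over an element of order `p` of `W` -/
theorem Ctx.lev_N (C : Ctx R H k) {Q : Subgroup Y} (hQU : Q ≤ RGD.Sup X (RGD.Pos cs h))
    (hUQ : RGD.Sup X (RGD.Pos cs h) ≤ normalizer (Q : Set Y)) {w : W} {g : Y} (hg : Rp cs R.nsys w g) (hgH : g ∈ H)
    (hgQ : g ∈ normalizer (Q : Set Y)) (hw : w ^ p = 1) (hw1 : w ≠ 1) : ¬ H ⊓ RGD.Sup X (RGD.Pos cs h) ≤ Q := by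
  intro hV
  obtain ⟨m, hm, hgm⟩ := C.lev hUQ hV hQU hgH hgQ
  have h1 : Rp cs R.nsys (w ^ m) (g ^ m) := by
    clear hgm hm
    induction m with
    | zero => rw [pow_zero, pow_zero]; exact rp_one
    | succ m ih => rw [pow_succ, pow_succ]; exact ih.mul hg
  have h2 : w ^ m = 1 := R.eq_one_of_mem_B h1 (RGD.U_le_B (hQU hgm))
  apply hw1
  have h3 : orderOf w ∣ p := orderOf_dvd_of_pow_eq_one hw
  have h4 : orderOf w ∣ m := orderOf_dvd_of_pow_eq_one h2
  have h5 : Nat.Coprime p m := (Nat.Prime.coprime_iff_not_dvd Fact.out).2 hm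
  exact orderOf_eq_one_iff.1 (Nat.eq_one_of_dvd_coprimes h5 h3 h4)

/-- `H ∩ U ≠ 1` if `p` divides the order of `W` -/
theorem Ctx.inf_ne_bot (C : Ctx R H k) (hT : T ≤ H)
    (hU : ∀ u ∈ RGD.Sup X (RGD.Pos cs h), (∀ t ∈ T, u * t = t * u) → u = 1) {w : W} (hw : w ^ p = 1) (hw1 : w ≠ 1) :
    ¬ H ⊓ RGD.Sup X (RGD.Pos cs h) ≤ ⊥ := by
  obtain ⟨g, hg⟩ := exists_rp cs R.nsys w
  have hn : normalizer ((⊥ : Subgroup Y) : Set Y) = ⊤ := normalizer_eq_top _
  exact C.lev_N bot_le (by rw [hn]; exact le_top) hg (C.N_le hT hU hg) (by rw [hn]; exact mem_top _) hw hw1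

theorem Ctx.T_le_normalizer (_C : Ctx R H k) (hT : T ≤ H) : T ≤ normalizer ((H ⊓ RGD.Sup X (RGD.Pos cs h) : Subgroup Y) : Set Y) := by
  intro t ht
  rw [mem_normalizer_iff]
  intro z
  rw [Subgroup.mem_inf, Subgroup.mem_inf, ← mem_normalizer_iff.1 (le_normalizer (hT ht)) z,
    ← mem_normalizer_iff.1 (R.T_le_normalizer_U ht) z]

/-- a root element in `H` -/
theorem Ctx.exists_root (C : Ctx R H k) (hT : T ≤ H) (w : W) (hV : ¬ H ⊓ RGD.Sup X (RGD.Pos cs h) ≤ RGD.Sup X (Fut cs h w))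
    (hsep : ∀ x, IsRoot cs h x → 0 ≤ x → x ∉ Fut cs h w → Sep cs h T X x) :
    ∃ x, IsRoot cs h x ∧ 0 ≤ x ∧ x ∉ Fut cs h w ∧ ∃ c ∈ H, c ∈ X x ∧ c ≠ 1 := by
  obtain ⟨x, hx, h0, hf, c, hc, hcf, hct⟩ := exists_iso R w (V := H ⊓ RGD.Sup X (RGD.Pos cs h)) inf_le_right
    (C.T_le_normalizer hT) hV
  refine ⟨x, hx, h0, hf, c, hc.1, hsep x hx h0 hf c hc.2 hct, ?_⟩
  rintro rfl
  exact hcf (one_mem _)

/-- **The panel lemma for root group data.** -/
theorem Ctx.panel (C : Ctx R H k) (hT : T ≤ H) (hTc : ∀ s ∈ T, ∀ t ∈ T, s * t = t * s)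
    (hU : ∀ u ∈ RGD.Sup X (RGD.Pos cs h), (∀ t ∈ T, u * t = t * u) → u = 1) {i : I} (hs : Sep cs h T X (sr i))
    (hreg : ∀ x ∈ X (sr i), ∀ y ∈ X (sr i), x ≠ 1 → y ≠ 1 → ∃ t ∈ T, t * x * t⁻¹ = y)
    (h6 : 6 ≤ Nat.card (X (sr i))) : ∃ c ∈ H, c ∈ X (sr i) ∧ c ≠ 1 := by
  by_contra hcon
  push Not at hcon
  have hnH : n i ∈ H := C.N_le hT hU (rp_simple cs R.nsys i)
  have hnL : n i ∈ LJ cs h T X {i} := n_mem_LJ R rfl
  have hTL : T ≤ LJ cs h T X {i} := T_le_LJ
  have hsrJ : sr i ∈ RootsJ cs h {i} := PosJ_subset _ (sr_mem_PosJ rfl)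
  have hXL : X (sr i) ≤ LJ cs h T X {i} := X_le_LJ hsrJ
  have hXB : X (sr i) ≤ RGD.B cs h T X := RGD.X_le_B (isRoot_sr cs h i) (sr_nonneg i)
  have hBinf : ∀ a, a ∈ LJ cs h T X {i} → a ∈ RGD.B cs h T X → ∃ x ∈ X (sr i), ∃ t ∈ T, a = x * t := by
    intro a h1 h2
    have h3 : a ∈ RGD.B cs h T X ⊓ LJ cs h T X {i} := ⟨h2, h1⟩
    rw [B_inf_LJ R] at h3
    exact mem_BJ_single R h3
  have hnB : n i ∉ RGD.B cs h T X := by
    intro h1
    have h2 := R.eq_one_of_mem_B (rp_simple cs R.nsys i) h1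
    have h3 := rep_simple_sr cs h i
    rw [h2, map_one, Module.End.one_apply] at h3
    have h4 := congrFun h3 i
    rw [Pi.neg_apply, sr_self] at h4
    omega
  have hnt : ∀ t ∈ T, (n i)⁻¹ * t * n i ∈ T := by
    intro t ht
    have h3 := (Subgroup.mem_normalizer_iff.1 (inv_mem (R.nsys.norm i)) t).1 ht
    rwa [inv_inv] at h3
  have D : Panel.Dat (RGD.B cs h T X) (H ⊓ LJ cs h T X {i}) T (X (sr i)) (n i) :=
    { tA := le_inf hT hTL
      tB := RGD.T_le_B
      xB := hXB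
      nA := Subgroup.mem_inf.2 ⟨hnH, hnL⟩
      inf := by
        rintro a ⟨haH, haL⟩ haB
        obtain ⟨x, hx, t, ht, rfl⟩ := hBinf a haL haB
        have h1 : x ∈ H := by
          have h0 : t⁻¹ ∈ H := inv_mem (hT ht)
          have := mul_mem haH h0
          rwa [mul_inv_cancel_right] at this
        have h2 : x = 1 := hcon x h1 hx
        rw [h2, one_mul]
        exact ht
      nt := hnt
      nn := R.sq_mem_T i
      pt := by
        rintro a ⟨haH, haL⟩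
        obtain ⟨w, hw, b₁, hb₁, g, hg, b₂, hb₂, rfl⟩ := exists_cellJ R haL
        have hw' : w = 1 ∨ w = cs.simple i := by
          have h1 : WJ cs {i} ≤ zpowers (cs.simple i) := by
            unfold WJ
            rw [closure_le, Set.image_singleton, Set.singleton_subset_iff]
            exact mem_zpowers _
          obtain ⟨m, rfl⟩ := mem_zpowers_iff.1 (h1 hw)
          have h2 : cs.simple i ^ (2 : ℤ) = 1 := by
            have := cs.simple_mul_simple_self i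
            rw [zpow_two, this]
          rcases Int.even_or_odd' m with ⟨c, rfl | rfl⟩
          · left
            rw [zpow_mul, h2, one_zpow]
          · right
            rw [zpow_add, zpow_mul, h2, one_zpow, one_mul, zpow_one]
        obtain ⟨x₁, hx₁, t₁, ht₁, rfl⟩ := mem_BJ_single R hb₁
        have hb₂B := BJ_le_B (h := h) {i} hb₂
        rcases hw' with rfl | rfl
        · left
          exact mul_mem (mul_mem (mul_mem (hXB hx₁) (RGD.T_le_B ht₁)) (RGD.T_le_B hg.mem_of_one)) hb₂B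
        · right
          refine ⟨x₁, hx₁, ?_⟩
          have h1 : (n i)⁻¹ * g ∈ T := by
            have h2 := (rp_simple cs R.nsys i).inv.mul hg
            rw [cs.inv_simple, cs.simple_mul_simple_self] at h2
            exact h2.mem_of_one
          have e : (x₁ * n i)⁻¹ * (x₁ * t₁ * g * b₂) = ((n i)⁻¹ * t₁ * n i) * ((n i)⁻¹ * g) * b₂ := by group
          rw [e]
          exact mul_mem (mul_mem (RGD.T_le_B (hnt _ ht₁)) (RGD.T_le_B h1)) hb₂B
      tr := by
        intro x hx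
        let Y₀ : Subgroup Y := T ⊓ centralizer (X (sr i) : Set Y)
        have hY₀ : ∀ t, t ∈ Y₀ ↔ t ∈ T ∧ ∀ a ∈ X (sr i), a * t = t * a := fun t => by
          rw [Subgroup.mem_inf, mem_centralizer_iff]
          rfl
        have hg : ∀ y ∈ Y₀, y * (x * n i)⁻¹ = (x * n i)⁻¹ * y := by
          intro y hy
          obtain ⟨hyT, hyX⟩ := (hY₀ y).1 hy
          have h1 := comm_n R hTc hyT (fun a ha => (hyX a ha).symm)
          have h2 : y * (x * n i) = (x * n i) * y := by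
            rw [← mul_assoc, ← hyX x hx, mul_assoc, h1, ← mul_assoc]
          calc y * (x * n i)⁻¹ = (x * n i)⁻¹ * ((x * n i) * y) * (x * n i)⁻¹ := by group
            _ = (x * n i)⁻¹ * (y * (x * n i)) * (x * n i)⁻¹ := by rw [h2]
            _ = _ := by group
        obtain ⟨u, hu, z, hz, hcu, e⟩ := C.exists_cent_mul (Y₀ := Y₀) inf_le_left (inf_le_left.trans hT)
          (g := x * n i) (fun y hy => by
            have h1 : (x * n i)⁻¹ * y * (x * n i) = y := by rw [← hg y hy]; group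
            rw [h1]
            exact hT hy.1)
        have hux : u ∈ X (sr i) := hs u hu fun t ht hta => hcu t ((hY₀ t).2 ⟨ht, fun a ha => (hta a ha).symm⟩)
        -- `x n = u z`; use the inverse form
        obtain ⟨u', hu', z', hz', hcu', e'⟩ := C.exists_cent_mul (Y₀ := Y₀) inf_le_left (inf_le_left.trans hT)
          (g := (x * n i)⁻¹) (fun y hy => by
            have h1 : (x * n i)⁻¹⁻¹ * y * (x * n i)⁻¹ = y := by
              rw [mul_assoc, hg y hy]; group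
            rw [h1]
            exact hT hy.1)
        have hux' : u' ∈ X (sr i) :=
          hs u' hu' fun t ht hta => hcu' t ((hY₀ t).2 ⟨ht, fun a ha => (hta a ha).symm⟩)
        have h2 : z'⁻¹ = x * n i * u' := by
          have h3 : z' = u'⁻¹ * (x * n i)⁻¹ := by rw [e']; group
          rw [h3]; group
        refine ⟨z'⁻¹, Subgroup.mem_inf.2 ⟨inv_mem hz', ?_⟩, ?_⟩
        · rw [h2]
          exact mul_mem (mul_mem (hXL hx) hnL) (hXL hux')
        · rw [h2]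
          have e3 : (x * n i)⁻¹ * (x * n i * u') = u' := by group
          rw [e3]
          exact hXB hux'
      inj := by
        intro x hx y hy hB
        have h1 : (n i)⁻¹ * (x⁻¹ * y) * n i ∈ X (-sr i) := by
          have := R.conj_mem' (rp_simple cs R.nsys i) (isRoot_sr cs h i) (mul_mem (inv_mem hx) hy)
          rwa [cs.inv_simple, rep_simple_sr] at this
        have e : (x * n i)⁻¹ * (y * n i) = (n i)⁻¹ * (x⁻¹ * y) * n i := by group
        rw [e] at hB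
        have h2 : (n i)⁻¹ * (x⁻¹ * y) * n i ∈ X (-sr i) ⊓ RGD.B cs h T X := ⟨h1, hB⟩
        rw [neg_inf_B R i, mem_bot] at h2
        have h3 : x⁻¹ * y = 1 := by
          calc x⁻¹ * y = n i * ((n i)⁻¹ * (x⁻¹ * y) * n i) * (n i)⁻¹ := by group
            _ = 1 := by rw [h2]; group
        exact inv_mul_eq_one.1 h3
      ne := by
        intro x hx hB
        apply hnB
        have := mul_mem (inv_mem (hXB hx)) hB
        rwa [inv_mul_cancel_left] at this
      cm := hTc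
      tX := by
        intro t ht x hx
        have h4 := R.tor (sr i) (isRoot_sr cs h i) t ht
        rw [← h4]
        exact conj_mem_cj.2 hx
      reg := hreg }
  exact Panel.main D h6

/-- the case `p = 2` : `H ∩ X_i ≠ 1` -/
theorem Ctx.two (C : Ctx R H k) (hp : p = 2) (hT : T ≤ H)
    (hU : ∀ u ∈ RGD.Sup X (RGD.Pos cs h), (∀ t ∈ T, u * t = t * u) → u = 1) {i : I} (hs : Sep cs h T X (sr i)) :
    ∃ c ∈ H, c ∈ X (sr i) ∧ c ≠ 1 := by
  have hfut : Fut cs h (cs.simple i) = RGD.PosNe cs h i := by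
    have h1 := fut_mul (cs := cs) (h := h) (w := 1) (i := i) (by
      rw [map_one, Module.End.one_apply]; exact sr_nonneg i)
    rw [one_mul, fut_one, map_one, Module.End.one_apply] at h1
    rw [h1]
    ext x
    constructor
    · rintro ⟨⟨h2, h3⟩, h4⟩; exact ⟨h2, h3, h4⟩
    · rintro ⟨h2, h3, h4⟩; exact ⟨⟨h2, h3⟩, h4⟩
  have hnQ : n i ∈ normalizer (RGD.Sup X (RGD.PosNe cs h i) : Set Y) := mem_normalizer_iff_cj.2 (R.cj_n_V i)
  have hUQ : RGD.Sup X (RGD.Pos cs h) ≤ normalizer (RGD.Sup X (RGD.PosNe cs h i) : Set Y) := by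
    rw [R.Upos_eq i]
    exact sup_le (R.X_le_normalizer_V i) le_normalizer
  have hs1 : cs.simple i ≠ 1 := by
    intro h1
    have h3 := rep_simple_sr cs h i
    rw [h1, map_one, Module.End.one_apply] at h3
    have h4 := congrFun h3 i
    rw [Pi.neg_apply, sr_self] at h4
    omega
  have h1 := C.lev_N (Q := RGD.Sup X (RGD.PosNe cs h i)) (RGD.Sup_mono fun x hx => ⟨hx.1, hx.2.1⟩) hUQ
    (rp_simple cs R.nsys i) (C.N_le hT hU (rp_simple cs R.nsys i)) hnQ (by
      rw [hp, pow_two]; exact cs.simple_mul_simple_self i) hs1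
  rw [← hfut] at h1
  obtain ⟨x, hx, h0, hf, c, hc, hcx, hc1⟩ := C.exists_root hT (cs.simple i) h1 (by
    intro x hx h0 hf
    have : x = sr i := by
      by_contra hne
      apply hf
      rw [hfut]
      exact ⟨hx, h0, hne⟩
    rw [this]; exact hs)
  have : x = sr i := by
    by_contra hne
    apply hf
    rw [hfut]
    exact ⟨hx, h0, hne⟩
  subst this
  exact ⟨c, hc, hcx, hc1⟩

end Fin

end Cfsg.Agent.H225.PPow
end
end
end
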